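import Groth.Agent.H53.Desc.AlgDescent
import Mathlib.AlgebraicGeometry.Pullbacks

/-! Effective descent for affine schemes over an affine faithfully flat cover, descent data in
functor-of-points form. -/

set_option autoImplicit false
universe u

open TensorProduct CategoryTheory AlgebraicGeometry

namespace Groth.Agent.H53.Desc

variable (A A' B' : Type u) [CommRing A] [CommRing A'] [CommRing B'] [Algebra A A']
  [Algebra A' B']

/-- `Spec A' ⟶ Spec A`. -/
noncomputable abbrev pMap : Spec (CommRingCat.of A') ⟶ Spec (CommRingCat.of A) :=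
  Spec.map (CommRingCat.ofHom (algebraMap A A'))

/-- `Spec B' ⟶ Spec A'`. -/
noncomputable abbrev aMap : Spec (CommRingCat.of B') ⟶ Spec (CommRingCat.of A') :=
  Spec.map (CommRingCat.ofHom (algebraMap A' B'))

/-- A descent datum on `Spec B' ⟶ Spec A'` relative to `Spec A' ⟶ Spec A`, in functor of points
form: a point `v` of `Spec B'` and a point `x` of `Spec A'` with the same image in `Spec A` give a
point of `Spec B'` over `x`. -/
structure AffDD where
  /-- transport of points -/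
  Φ : ∀ {T : Scheme.{u}} (v : T ⟶ Spec (CommRingCat.of B')) (x : T ⟶ Spec (CommRingCat.of A')),
    v ≫ aMap A' B' ≫ pMap A A' = x ≫ pMap A A' → (T ⟶ Spec (CommRingCat.of B'))
  Φ_over : ∀ {T : Scheme.{u}} (v : T ⟶ Spec (CommRingCat.of B')) (x : T ⟶ Spec (CommRingCat.of A'))
    (h : v ≫ aMap A' B' ≫ pMap A A' = x ≫ pMap A A'), Φ v x h ≫ aMap A' B' = x
  Φ_natural : ∀ {T T' : Scheme.{u}} (g : T' ⟶ T) (v : T ⟶ Spec (CommRingCat.of B'))
    (x : T ⟶ Spec (CommRingCat.of A')) (h : v ≫ aMap A' B' ≫ pMap A A' = x ≫ pMap A A')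
    (h' : (g ≫ v) ≫ aMap A' B' ≫ pMap A A' = (g ≫ x) ≫ pMap A A'),
    g ≫ Φ v x h = Φ (g ≫ v) (g ≫ x) h'
  Φ_self : ∀ {T : Scheme.{u}} (v : T ⟶ Spec (CommRingCat.of B'))
    (h : v ≫ aMap A' B' ≫ pMap A A' = (v ≫ aMap A' B') ≫ pMap A A'), Φ v (v ≫ aMap A' B') h = v
  Φ_comp : ∀ {T : Scheme.{u}} (v : T ⟶ Spec (CommRingCat.of B'))
    (x₁ x₂ : T ⟶ Spec (CommRingCat.of A')) (h₁ : v ≫ aMap A' B' ≫ pMap A A' = x₁ ≫ pMap A A')
    (h₂ : Φ v x₁ h₁ ≫ aMap A' B' ≫ pMap A A' = x₂ ≫ pMap A A')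
    (h₃ : v ≫ aMap A' B' ≫ pMap A A' = x₂ ≫ pMap A A'), Φ (Φ v x₁ h₁) x₂ h₂ = Φ v x₂ h₃

variable {A A' B'}

theorem AffDD.Φ_congr (D : AffDD A A' B') {T : Scheme.{u}} {v v' : T ⟶ Spec (CommRingCat.of B')}
    {x x' : T ⟶ Spec (CommRingCat.of A')} (hv : v = v') (hx : x = x')
    (h : v ≫ aMap A' B' ≫ pMap A A' = x ≫ pMap A A')
    (h' : v' ≫ aMap A' B' ≫ pMap A A' = x' ≫ pMap A A') : D.Φ v x h = D.Φ v' x' h' := by
  subst hv hx
  rfl


section Main

variable [Algebra A B'] [IsScalarTower A A' B']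

variable (A A' B') in
/-- First projection `Spec (A' ⊗ B') ⟶ Spec A'`. -/
noncomputable abbrev yProj : Spec (CommRingCat.of (A' ⊗[A] B')) ⟶ Spec (CommRingCat.of A') :=
  Spec.map (CommRingCat.ofHom (Algebra.TensorProduct.includeLeftRingHom))

variable (A A' B') in
/-- Second projection `Spec (A' ⊗ B') ⟶ Spec B'`. -/
noncomputable abbrev wProj : Spec (CommRingCat.of (A' ⊗[A] B')) ⟶ Spec (CommRingCat.of B') :=
  Spec.map (CommRingCat.ofHom
    (Algebra.TensorProduct.includeRight (R := A) (A := A') (B := B')).toRingHom)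

theorem aMap_pMap : aMap A' B' ≫ pMap A A' = Spec.map (CommRingCat.ofHom (algebraMap A B')) := by
  rw [← Spec.map_comp, ← CommRingCat.ofHom_comp, ← IsScalarTower.algebraMap_eq]

theorem isPullback_proj : IsPullback (yProj A A' B') (wProj A A' B') (pMap A A')
    (aMap A' B' ≫ pMap A A') := by
  rw [aMap_pMap]
  exact isPullback_SpecMap_of_isPushout _ _ _ _ (CommRingCat.isPushout_tensorProduct A A' B')

theorem wProj_cond : wProj A A' B' ≫ aMap A' B' ≫ pMap A A' = yProj A A' B' ≫ pMap A A' :=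
  isPullback_proj.w.symm


variable (D : AffDD A A' B')

/-- The universal transported point. -/
noncomputable def AffDD.w₀ : Spec (CommRingCat.of (A' ⊗[A] B')) ⟶ Spec (CommRingCat.of B') :=
  D.Φ (wProj A A' B') (yProj A A' B') wProj_cond

/-- The coaction as a morphism of rings. -/
noncomputable def AffDD.thetaCat : CommRingCat.of B' ⟶ CommRingCat.of (A' ⊗[A] B') :=
  Spec.preimage D.w₀

theorem AffDD.map_thetaCat : Spec.map D.thetaCat = D.w₀ := Spec.map_preimage _

theorem AffDD.thetaCat_algebraMap (x : A') :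
    D.thetaCat.hom (algebraMap A' B' x) = x ⊗ₜ 1 := by
  have h := D.Φ_over (wProj A A' B') (yProj A A' B') wProj_cond
  change D.w₀ ≫ _ = _ at h
  rw [← D.map_thetaCat, ← Spec.map_comp] at h
  have := Spec.map_injective h
  exact congrArg (fun f => f.hom x) this

/-- The coaction. -/
noncomputable def AffDD.theta : B' →ₐ[A] A' ⊗[A] B' :=
  { D.thetaCat.hom with
    commutes' := fun r => by
      change D.thetaCat.hom (algebraMap A B' r) = _
      rw [IsScalarTower.algebraMap_apply A A' B', D.thetaCat_algebraMap,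
        Algebra.TensorProduct.algebraMap_apply] }

theorem AffDD.theta_apply (u : B') : D.theta u = D.thetaCat.hom u := rfl

theorem AffDD.ofHom_theta : CommRingCat.ofHom D.theta.toRingHom = D.thetaCat := rfl


theorem AffDD.theta_counit (u : B') : mulMap A A' B' (D.theta u) = u := by
  let δ : Spec (CommRingCat.of B') ⟶ Spec (CommRingCat.of (A' ⊗[A] B')) :=
    Spec.map (CommRingCat.ofHom (mulMap A A' B').toRingHom)
  have h1 : δ ≫ wProj A A' B' = 𝟙 _ := by
    rw [← Spec.map_comp, ← Spec.map_id]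
    congr 1
    ext v
    simp
  have h2 : δ ≫ yProj A A' B' = aMap A' B' := by
    rw [← Spec.map_comp]
    congr 1
    ext x
    simp
  have hc : (δ ≫ wProj A A' B') ≫ aMap A' B' ≫ pMap A A' = (δ ≫ yProj A A' B') ≫ pMap A A' := by
    rw [Category.assoc, Category.assoc, wProj_cond]
  have h3 : δ ≫ D.w₀ = 𝟙 _ := by
    rw [AffDD.w₀, D.Φ_natural δ _ _ wProj_cond hc,
      D.Φ_congr h1 (h2.trans (Category.id_comp _).symm) hc (by simp)]
    exact D.Φ_self (𝟙 _) (by simp)
  rw [← D.map_thetaCat, ← Spec.map_comp, ← Spec.map_id] at h3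
  have := Spec.map_injective h3
  exact congrArg (fun f => f.hom u) this


theorem AffDD.theta_coassoc (u : B') :
    Algebra.TensorProduct.map (AlgHom.id A A') D.theta (D.theta u) =
      Algebra.TensorProduct.map (AlgHom.id A A') Algebra.TensorProduct.includeRight
        (D.theta u) := by
  let z₀ : Spec (CommRingCat.of (A' ⊗[A] (A' ⊗[A] B'))) ⟶ Spec (CommRingCat.of A') :=
    Spec.map (CommRingCat.ofHom (Algebra.TensorProduct.includeLeftRingHom))
  let q : Spec (CommRingCat.of (A' ⊗[A] (A' ⊗[A] B'))) ⟶ Spec (CommRingCat.of (A' ⊗[A] B')) :=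
    Spec.map (CommRingCat.ofHom (Algebra.TensorProduct.includeRight (R := A) (A := A')
      (B := A' ⊗[A] B')).toRingHom)
  let r : Spec (CommRingCat.of (A' ⊗[A] (A' ⊗[A] B'))) ⟶ Spec (CommRingCat.of (A' ⊗[A] B')) :=
    Spec.map (CommRingCat.ofHom (Algebra.TensorProduct.map (AlgHom.id A A') D.theta).toRingHom)
  let r' : Spec (CommRingCat.of (A' ⊗[A] (A' ⊗[A] B'))) ⟶ Spec (CommRingCat.of (A' ⊗[A] B')) :=
    Spec.map (CommRingCat.ofHom (Algebra.TensorProduct.map (AlgHom.id A A')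
      (Algebra.TensorProduct.includeRight (R := A) (A := A') (B := B'))).toRingHom)
  have hr1 : r ≫ yProj A A' B' = z₀ := by
    rw [← Spec.map_comp]
    congr 1
    ext x
    simp
  have hr2 : r ≫ wProj A A' B' = q ≫ D.w₀ := by
    rw [← D.map_thetaCat, ← Spec.map_comp, ← Spec.map_comp]
    refine congrArg Spec.map ?_
    ext v
    simp [AffDD.theta_apply]
  have hr'1 : r' ≫ yProj A A' B' = z₀ := by
    rw [← Spec.map_comp]
    refine congrArg Spec.map ?_
    ext x
    simp
  have hr'2 : r' ≫ wProj A A' B' = q ≫ wProj A A' B' := by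
    rw [← Spec.map_comp, ← Spec.map_comp]
    refine congrArg Spec.map ?_
    ext v
    simp
  have c1 : (r ≫ wProj A A' B') ≫ aMap A' B' ≫ pMap A A' = (r ≫ yProj A A' B') ≫ pMap A A' := by
    rw [Category.assoc, Category.assoc, wProj_cond]
  have c2 : (r' ≫ wProj A A' B') ≫ aMap A' B' ≫ pMap A A' =
      (r' ≫ yProj A A' B') ≫ pMap A A' := by
    rw [Category.assoc, Category.assoc, wProj_cond]
  have c3 : (q ≫ wProj A A' B') ≫ aMap A' B' ≫ pMap A A' = (q ≫ yProj A A' B') ≫ pMap A A' := by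
    rw [Category.assoc, Category.assoc, wProj_cond]
  have c4 : (q ≫ wProj A A' B') ≫ aMap A' B' ≫ pMap A A' = z₀ ≫ pMap A A' := by
    rw [← hr'2, ← hr'1]
    exact c2
  have e0 : q ≫ D.w₀ = D.Φ (q ≫ wProj A A' B') (q ≫ yProj A A' B') c3 :=
    D.Φ_natural q _ _ wProj_cond c3
  have c5 : D.Φ (q ≫ wProj A A' B') (q ≫ yProj A A' B') c3 ≫ aMap A' B' ≫ pMap A A' =
      z₀ ≫ pMap A A' := by
    rw [← Category.assoc, D.Φ_over, ← c3]
    exact c4
  have e1 : r ≫ D.w₀ = D.Φ (q ≫ wProj A A' B') z₀ c4 := by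
    rw [AffDD.w₀, D.Φ_natural r _ _ wProj_cond c1, D.Φ_congr (hr2.trans e0) hr1 c1 c5]
    exact D.Φ_comp _ _ _ c3 c5 c4
  have e2 : r' ≫ D.w₀ = D.Φ (q ≫ wProj A A' B') z₀ c4 := by
    rw [AffDD.w₀, D.Φ_natural r' _ _ wProj_cond c2, D.Φ_congr hr'2 hr'1 c2 c4]
  have e3 : r ≫ D.w₀ = r' ≫ D.w₀ := e1.trans e2.symm
  rw [← D.map_thetaCat, ← Spec.map_comp, ← Spec.map_comp] at e3
  have := Spec.map_injective e3
  exact congrArg (fun f => f.hom u) this

theorem AffDD.coact : Coact D.theta :=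
  ⟨D.thetaCat_algebraMap, D.theta_counit, D.theta_coassoc⟩


/-- The descended algebra. -/
noncomputable def AffDD.descAlg : Subalgebra A B' := Desc.descAlg D.theta

/-- The quotient map `Spec B' ⟶ Spec B`. -/
noncomputable def AffDD.eMap : Spec (CommRingCat.of B') ⟶ Spec (CommRingCat.of D.descAlg) :=
  Spec.map (CommRingCat.ofHom D.descAlg.val.toRingHom)

theorem AffDD.descMap_bijective [Module.FaithfullyFlat A A'] :
    Function.Bijective (descMap D.theta) :=
  Desc.descMap_bijective D.coact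

theorem AffDD.w₀_eMap : D.w₀ ≫ D.eMap = wProj A A' B' ≫ D.eMap := by
  rw [← D.map_thetaCat, AffDD.eMap, ← Spec.map_comp, ← Spec.map_comp]
  refine congrArg Spec.map ?_
  ext u
  have := (mem_descAlg D.theta u.1).1 u.2
  simpa [AffDD.theta_apply] using this

theorem AffDD.Φ_eMap {T : Scheme.{u}} (v : T ⟶ Spec (CommRingCat.of B'))
    (x : T ⟶ Spec (CommRingCat.of A')) (h : v ≫ aMap A' B' ≫ pMap A A' = x ≫ pMap A A') :
    D.Φ v x h ≫ D.eMap = v ≫ D.eMap := by
  have sq := isPullback_proj (A := A) (A' := A') (B' := B')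
  have hg1 : sq.lift x v h.symm ≫ yProj A A' B' = x := sq.lift_fst _ _ _
  have hg2 : sq.lift x v h.symm ≫ wProj A A' B' = v := sq.lift_snd _ _ _
  have hc : (sq.lift x v h.symm ≫ wProj A A' B') ≫ aMap A' B' ≫ pMap A A' =
      (sq.lift x v h.symm ≫ yProj A A' B') ≫ pMap A A' := by
    rw [Category.assoc, Category.assoc, wProj_cond]
  have e : D.Φ v x h = sq.lift x v h.symm ≫ D.w₀ := by
    rw [AffDD.w₀, D.Φ_natural _ _ _ wProj_cond hc]
    exact D.Φ_congr hg2.symm hg1.symm h hc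
  rw [e, Category.assoc, D.w₀_eMap, ← Category.assoc, hg2]


/-- `Spec B ⟶ Spec A`. -/
noncomputable abbrev AffDD.bMap : Spec (CommRingCat.of D.descAlg) ⟶ Spec (CommRingCat.of A) :=
  Spec.map (CommRingCat.ofHom (algebraMap A D.descAlg))

theorem AffDD.isPullback_eMap [Module.FaithfullyFlat A A'] :
    IsPullback (aMap A' B') D.eMap (pMap A A') D.bMap := by
  let e : (A' ⊗[A] D.descAlg) ≃+* B' :=
    RingEquiv.ofBijective (descMap D.theta).toRingHom D.descMap_bijective
  have po : IsPushout (CommRingCat.ofHom (algebraMap A A'))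
      (CommRingCat.ofHom (algebraMap A D.descAlg)) (CommRingCat.ofHom (algebraMap A' B'))
      (CommRingCat.ofHom D.descAlg.val.toRingHom) := by
    refine (CommRingCat.isPushout_tensorProduct A A' D.descAlg).of_iso (Iso.refl _) (Iso.refl _)
      (Iso.refl _) e.toCommRingCatIso (by simp) (by simp) ?_ ?_
    · ext x
      change descMap D.theta (x ⊗ₜ 1) = algebraMap A' B' x
      rw [descMap_tmul]
      simp
    · ext v
      change descMap D.theta (1 ⊗ₜ v) = (v : B')
      rw [descMap_tmul]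
      simp
  exact isPullback_SpecMap_of_isPushout _ _ _ _ po

end Main

end Groth.Agent.H53.Desc
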