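import Groth.Agent.H53.Desc.QAffCore

/-! Effective descent for quasi-affine schemes over an affine faithfully flat cover: the descended
quasi-affine scheme as an open subscheme of the descended affine hull. -/

set_option autoImplicit false
universe u

open TensorProduct CategoryTheory CategoryTheory.Limits AlgebraicGeometry

namespace Groth.Agent.H53.Desc

variable {A A' B' : Type u} [CommRing A] [CommRing A'] [CommRing B'] [Algebra A A']
  [Algebra A' B'] [Algebra A B'] [IsScalarTower A A' B'] [Module.FaithfullyFlat A A']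
  {V : Scheme.{u}} {a : V ⟶ Spec (CommRingCat.of A')} (D : GenDD A a)
  (j : V ⟶ Spec (CommRingCat.of B')) (hj : j ≫ aMap A' B' = a)
  [CompactSpace V] [QuasiSeparatedSpace V] [IsIso j.appTop]

/-- The quotient map `V̄ ⟶ Ū`. -/
noncomputable abbrev qe : Spec (CommRingCat.of B') ⟶ Spec (CommRingCat.of (qDD D j hj).descAlg) :=
  (qDD D j hj).eMap

theorem flat_qe : Flat (qe D j hj) :=
  MorphismProperty.of_isPullback (P := @Flat) (qDD D j hj).isPullback_eMap inferInstance

theorem surjective_qe : Surjective (qe D j hj) :=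
  MorphismProperty.of_isPullback (P := @Surjective) (qDD D j hj).isPullback_eMap inferInstance

/-- The range of `j` is saturated for the quotient map. -/
theorem mem_range_of_qe_eq (p' : Spec (CommRingCat.of B')) (p : V)
    (h : qe D j hj p' = qe D j hj (j p)) : p' ∈ Set.range j := by
  have hpb := (qDD D j hj).isPullback_eMap
  obtain ⟨r, hr1, hr2⟩ := Scheme.Pullback.exists_preimage_pullback (f := qe D j hj)
    (g := qe D j hj) (j p) p' h.symm
  let pr₁ := pullback.fst (qe D j hj) (qe D j hj)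
  let pr₂ := pullback.snd (qe D j hj) (qe D j hj)
  have hcond : pr₁ ≫ aMap A' B' ≫ pMap A A' = (pr₂ ≫ aMap A' B') ≫ pMap A A' := by
    rw [hpb.w, Category.assoc, hpb.w, ← Category.assoc, ← Category.assoc]
    congr 1
    exact pullback.condition
  have hφ : qΦ D j hj pr₁ (pr₂ ≫ aMap A' B') hcond = pr₂ := by
    apply hpb.hom_ext
    · rw [qΦ_over]
    · have h1 := (qDD D j hj).Φ_eMap pr₁ (pr₂ ≫ aMap A' B') hcond
      rw [qDD_Φ] at h1
      rw [h1]
      exact pullback.condition
  let y := qlift (pr₂ ≫ aMap A' B') pr₁ hcond.symm r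
  have hy : wProj A A' B' y = j p := by
    change wProj A A' B' (qlift (pr₂ ≫ aMap A' B') pr₁ hcond.symm r) = j p
    rw [← Scheme.Hom.comp_apply, qlift_snd]
    exact hr1
  obtain ⟨r', hr'1, hr'2⟩ := Scheme.Pullback.exists_preimage_pullback (f := wProj A A' B')
    (g := j) y p hy
  refine ⟨qτ D j hj r', ?_⟩
  rw [← Scheme.Hom.comp_apply, ← qk_qτbar D j hj, Scheme.Hom.comp_apply]
  change qτbar D j hj (qk A A' j r') = p'
  rw [show qk A A' j r' = y from hr'1]
  change qτbar D j hj (qlift (pr₂ ≫ aMap A' B') pr₁ hcond.symm r) = p'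
  rw [← Scheme.Hom.comp_apply]
  change qΦ D j hj pr₁ (pr₂ ≫ aMap A' B') hcond r = p'
  rw [hφ]
  exact hr2

variable [IsOpenImmersion j]

theorem preimage_image_range :
    (qe D j hj) ⁻¹' ((qe D j hj) '' Set.range j) = Set.range j := by
  apply Set.Subset.antisymm
  · rintro p' ⟨_, ⟨p, rfl⟩, hp⟩
    exact mem_range_of_qe_eq D j hj p' p hp.symm
  · exact Set.subset_preimage_image _ _

theorem isOpen_image_range : IsOpen ((qe D j hj) '' Set.range j) := by
  have := flat_qe D j hj
  have := surjective_qe D j hj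
  rw [← (Flat.isQuotientMap_of_surjective (qe D j hj)).isOpen_preimage, preimage_image_range]
  exact j.isOpenEmbedding.isOpen_range

/-- The open subscheme of the descended affine hull. -/
noncomputable def qU₀ : (Spec (CommRingCat.of (qDD D j hj).descAlg)).Opens :=
  ⟨(qe D j hj) '' Set.range j, isOpen_image_range D j hj⟩

theorem range_comp_subset : Set.range (j ≫ qe D j hj) ⊆ Set.range (qU₀ D j hj).ι := by
  rw [Scheme.Opens.range_ι]
  rintro _ ⟨p, rfl⟩
  exact ⟨j p, ⟨p, rfl⟩, rfl⟩

/-- The quotient map `V ⟶ U`. -/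
noncomputable def qε : V ⟶ (qU₀ D j hj).toScheme :=
  IsOpenImmersion.lift (qU₀ D j hj).ι (j ≫ qe D j hj) (range_comp_subset D j hj)

theorem qε_ι : qε D j hj ≫ (qU₀ D j hj).ι = j ≫ qe D j hj :=
  IsOpenImmersion.lift_fac _ _ _

theorem isPullback_qε : IsPullback j (qε D j hj) (qe D j hj) (qU₀ D j hj).ι := by
  refine (IsOpenImmersion.isPullback (qε D j hj) j (qU₀ D j hj).ι (qe D j hj)
    (qε_ι D j hj).symm ?_).flip
  rw [Scheme.Opens.opensRange_ι]
  apply TopologicalSpace.Opens.ext
  exact preimage_image_range D j hj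

/-- `U ⟶ Z`. -/
noncomputable abbrev qi : (qU₀ D j hj).toScheme ⟶ Spec (CommRingCat.of A) :=
  (qU₀ D j hj).ι ≫ (qDD D j hj).bMap

include hj in
theorem isPullback_qε_qi : IsPullback a (qε D j hj) (pMap A A') (qi D j hj) := by
  have h1 := ((isPullback_qε D j hj).flip.paste_vert (qDD D j hj).isPullback_eMap.flip).flip
  rwa [hj] at h1

theorem compactSpace_qU₀ : CompactSpace (qU₀ D j hj).toScheme := by
  have hs : Function.Surjective (qε D j hj) := by
    intro u
    have hu : (qU₀ D j hj).ι u ∈ Set.range (qU₀ D j hj).ι := ⟨u, rfl⟩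
    rw [Scheme.Opens.range_ι] at hu
    obtain ⟨_, ⟨p, rfl⟩, hp⟩ := hu
    refine ⟨p, ?_⟩
    apply (qU₀ D j hj).ι.isOpenEmbedding.injective
    rw [← Scheme.Hom.comp_apply, qε_ι, Scheme.Hom.comp_apply]
    exact hp
  exact hs.compactSpace (qε D j hj).continuous

theorem isQuasiAffine_qU₀ : (qU₀ D j hj).toScheme.IsQuasiAffine := by
  have := compactSpace_qU₀ D j hj
  exact Scheme.IsQuasiAffine.of_isImmersion (qU₀ D j hj).ι

theorem Φ_qε {T : Scheme.{u}} (v : T ⟶ V) (x : T ⟶ Spec (CommRingCat.of A'))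
    (h : v ≫ a ≫ pMap A A' = x ≫ pMap A A') : D.Φ v x h ≫ qε D j hj = v ≫ qε D j hj := by
  rw [← cancel_mono (qU₀ D j hj).ι, Category.assoc, Category.assoc, qε_ι]
  have h' : (v ≫ j) ≫ aMap A' B' ≫ pMap A A' = x ≫ pMap A A' := by
    rw [Category.assoc, ← Category.assoc j, hj]
    exact h
  rw [← Category.assoc, ← qΦ_comp_j D j hj v x h h']
  have h1 := (qDD D j hj).Φ_eMap (v ≫ j) x h'
  rw [qDD_Φ] at h1
  rw [h1, Category.assoc]

include hj in
/-- Effective descent of quasi-affine schemes, core form. -/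
theorem exists_quasiAffine_descent_core :
    ∃ (U : Scheme.{u}) (i : U ⟶ Spec (CommRingCat.of A)) (ε : V ⟶ U),
      IsPullback a ε (pMap A A') i ∧ U.IsQuasiAffine ∧
      ∀ {T : Scheme.{u}} (v : T ⟶ V) (x : T ⟶ Spec (CommRingCat.of A'))
        (h : v ≫ a ≫ pMap A A' = x ≫ pMap A A'), D.Φ v x h ≫ ε = v ≫ ε :=
  ⟨_, qi D j hj, qε D j hj, isPullback_qε_qi D j hj, isQuasiAffine_qU₀ D j hj,
    fun v x h => Φ_qε D j hj v x h⟩

end Groth.Agent.H53.Desc
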