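import Groth.Agent.S19547

/-! Faithfully flat descent for algebras in "coaction" form. -/

set_option autoImplicit false
universe u

open TensorProduct

namespace Groth.Agent.H53.Desc

variable (A A' B' : Type u) [CommRing A] [CommRing A'] [CommRing B'] [Algebra A A']
  [Algebra A' B'] [Algebra A B'] [IsScalarTower A A' B']

/-- The multiplication map `A' ⊗ B' → B'`. -/
noncomputable def mulMap : A' ⊗[A] B' →ₐ[A] B' :=
  Algebra.TensorProduct.lift (IsScalarTower.toAlgHom A A' B') (AlgHom.id A B')
    (fun _ _ => Commute.all _ _)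

@[simp] theorem mulMap_tmul (x : A') (u : B') : mulMap A A' B' (x ⊗ₜ u) = algebraMap A' B' x * u := by
  simp [mulMap]

/-- `A' → A' ⊗ B'`, `y ↦ 1 ⊗ y`. -/
noncomputable def inclR' : A' →ₐ[A] A' ⊗[A] B' :=
  (Algebra.TensorProduct.includeRight).comp (IsScalarTower.toAlgHom A A' B')

@[simp] theorem inclR'_apply (y : A') : inclR' A A' B' y = 1 ⊗ₜ algebraMap A' B' y := rfl

variable {A A' B'}

/-- Descent datum in coaction form. -/
structure Coact (θ : B' →ₐ[A] A' ⊗[A] B') : Prop where
  lin : ∀ x : A', θ (algebraMap A' B' x) = x ⊗ₜ 1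
  counit : ∀ u : B', mulMap A A' B' (θ u) = u
  coassoc : ∀ u : B', Algebra.TensorProduct.map (AlgHom.id A A') θ (θ u) =
    Algebra.TensorProduct.map (AlgHom.id A A') Algebra.TensorProduct.includeRight (θ u)

variable (θ : B' →ₐ[A] A' ⊗[A] B')

/-- The associated isomorphism `B' ⊗ A' → A' ⊗ B'`. -/
noncomputable def phi : B' ⊗[A] A' →ₐ[A] A' ⊗[A] B' :=
  Algebra.TensorProduct.lift θ (inclR' A A' B') (fun _ _ => Commute.all _ _)

@[simp] theorem phi_tmul (u : B') (z : A') :
    phi θ (u ⊗ₜ z) = θ u * (1 ⊗ₜ algebraMap A' B' z) := by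
  simp [phi]


theorem rTensor_mulLeft (x : A') (t : A' ⊗[A] B') :
    LinearMap.rTensor B' (LinearMap.mulLeft A x) t = (x ⊗ₜ 1) * t := by
  induction t using TensorProduct.induction_on with
  | zero => simp
  | tmul a b => simp [Algebra.TensorProduct.tmul_mul_tmul]
  | add s t hs ht => simp [mul_add, hs, ht]

theorem lTensor_lsmul (y : A') (t : A' ⊗[A] B') :
    LinearMap.lTensor A' (Algebra.lsmul A A B' y) t = (1 ⊗ₜ algebraMap A' B' y) * t := by
  induction t using TensorProduct.induction_on with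
  | zero => simp
  | tmul a b => simp [Algebra.TensorProduct.tmul_mul_tmul, Algebra.smul_def]
  | add s t hs ht => simp [mul_add, hs, ht]

variable {θ}

theorem phi_h1 (hθ : Coact θ) (x : A') (u : B') (z : A') :
    phi θ ((x • u) ⊗ₜ[A] z) =
      LinearMap.rTensor B' (LinearMap.mulLeft A x) (phi θ (u ⊗ₜ[A] z)) := by
  rw [rTensor_mulLeft, phi_tmul, phi_tmul, Algebra.smul_def, map_mul, hθ.lin, mul_assoc]

theorem phi_h2 (y : A') (u : B') (z : A') :
    phi θ (u ⊗ₜ[A] (y * z)) =
      LinearMap.lTensor A' (Algebra.lsmul A A B' y) (phi θ (u ⊗ₜ[A] z)) := by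
  rw [lTensor_lsmul, phi_tmul, phi_tmul, map_mul, ← mul_one (1 : A'),
    ← Algebra.TensorProduct.tmul_mul_tmul, mul_one]
  ring


theorem phi_cocycle_L (hθ : Coact θ) (t : A' ⊗[A] B') (a b : A') :
    LinearMap.lTensor A' (phi θ).toLinearMap
      (TensorProduct.assoc A A' B' A' ((t * (1 ⊗ₜ algebraMap A' B' a)) ⊗ₜ[A] b)) =
    Algebra.TensorProduct.map (AlgHom.id A A') θ t * (1 ⊗ₜ (a ⊗ₜ 1)) *
      (1 ⊗ₜ (1 ⊗ₜ algebraMap A' B' b)) := by
  induction t using TensorProduct.induction_on with
  | zero => simp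
  | tmul x v =>
    simp only [Algebra.TensorProduct.tmul_mul_tmul, mul_one, TensorProduct.assoc_tmul,
      LinearMap.lTensor_tmul, AlgHom.toLinearMap_apply, phi_tmul, map_mul, hθ.lin,
      Algebra.TensorProduct.map_tmul, AlgHom.coe_id, id_eq]
  | add s t hs ht =>
    simp only [add_mul, TensorProduct.add_tmul, map_add, hs, ht]

theorem phi_cocycle_R (t : A' ⊗[A] B') (a b : A') :
    LinearMap.lTensor A' (TensorProduct.mk A A' B' a) (t * (1 ⊗ₜ algebraMap A' B' b)) =
    Algebra.TensorProduct.map (AlgHom.id A A') Algebra.TensorProduct.includeRight t *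
      (1 ⊗ₜ (a ⊗ₜ 1)) * (1 ⊗ₜ (1 ⊗ₜ algebraMap A' B' b)) := by
  induction t using TensorProduct.induction_on with
  | zero => simp
  | tmul x v =>
    simp only [Algebra.TensorProduct.tmul_mul_tmul, mul_one, one_mul,
      LinearMap.lTensor_tmul, TensorProduct.mk_apply,
      Algebra.TensorProduct.map_tmul, AlgHom.coe_id, id_eq,
      Algebra.TensorProduct.includeRight_apply]
  | add s t hs ht =>
    simp only [add_mul, map_add, hs, ht]

theorem phi_cocycle (hθ : Coact θ) (u : B') (a b : A') :
    LinearMap.lTensor A' (phi θ).toLinearMap (TensorProduct.assoc A A' B' A'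
      (LinearMap.rTensor A' (phi θ).toLinearMap ((u ⊗ₜ[A] a) ⊗ₜ[A] b))) =
    LinearMap.lTensor A' (TensorProduct.mk A A' B' a) ((phi θ).toLinearMap (u ⊗ₜ[A] b)) := by
  rw [LinearMap.rTensor_tmul, AlgHom.toLinearMap_apply, AlgHom.toLinearMap_apply, phi_tmul,
    phi_tmul, phi_cocycle_L hθ, phi_cocycle_R, hθ.coassoc]


variable (θ)

/-- The inverse of `phi`. -/
noncomputable def psi : A' ⊗[A] B' →ₐ[A] B' ⊗[A] A' :=
  Algebra.TensorProduct.lift
    ((Algebra.TensorProduct.includeLeft).comp (IsScalarTower.toAlgHom A A' B'))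
    ((Algebra.TensorProduct.comm A A' B').toAlgHom.comp θ) (fun _ _ => Commute.all _ _)

@[simp] theorem psi_tmul (x : A') (u : B') :
    psi θ (x ⊗ₜ u) = (algebraMap A' B' x ⊗ₜ 1) * Algebra.TensorProduct.comm A A' B' (θ u) := by
  simp [psi]

variable (A A' B') in
/-- Contraction `x ⊗ (y ⊗ v) ↦ x v ⊗ y`. -/
noncomputable def kap : A' ⊗[A] (A' ⊗[A] B') →ₐ[A] B' ⊗[A] A' :=
  Algebra.TensorProduct.lift
    ((Algebra.TensorProduct.includeLeft).comp (IsScalarTower.toAlgHom A A' B'))
    (Algebra.TensorProduct.comm A A' B').toAlgHom (fun _ _ => Commute.all _ _)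

variable (A A' B') in
/-- Contraction `x ⊗ (y ⊗ v) ↦ y ⊗ x v`. -/
noncomputable def kap' : A' ⊗[A] (A' ⊗[A] B') →ₐ[A] A' ⊗[A] B' :=
  Algebra.TensorProduct.lift (inclR' A A' B') (AlgHom.id A _) (fun _ _ => Commute.all _ _)

theorem kap_map_theta (t : A' ⊗[A] B') :
    kap A A' B' (Algebra.TensorProduct.map (AlgHom.id A A') θ t) = psi θ t := by
  induction t using TensorProduct.induction_on with
  | zero => simp
  | tmul x v => simp [kap]
  | add s t hs ht => simp only [map_add, hs, ht]

theorem kap_map_inclR (t : A' ⊗[A] B') :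
    kap A A' B' (Algebra.TensorProduct.map (AlgHom.id A A')
      Algebra.TensorProduct.includeRight t) = mulMap A A' B' t ⊗ₜ 1 := by
  induction t using TensorProduct.induction_on with
  | zero => simp
  | tmul x v => simp [kap, Algebra.TensorProduct.tmul_mul_tmul]
  | add s t hs ht => simp only [map_add, hs, ht, TensorProduct.add_tmul]

theorem kap'_map_theta (t : A' ⊗[A] B') :
    kap' A A' B' (Algebra.TensorProduct.map (AlgHom.id A A') θ t) =
      phi θ (Algebra.TensorProduct.comm A A' B' t) := by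
  induction t using TensorProduct.induction_on with
  | zero => simp
  | tmul x v => simp [kap', mul_comm]
  | add s t hs ht => simp only [map_add, hs, ht]

theorem kap'_map_inclR (t : A' ⊗[A] B') :
    kap' A A' B' (Algebra.TensorProduct.map (AlgHom.id A A')
      Algebra.TensorProduct.includeRight t) = 1 ⊗ₜ mulMap A A' B' t := by
  induction t using TensorProduct.induction_on with
  | zero => simp
  | tmul x v => simp [kap', Algebra.TensorProduct.tmul_mul_tmul]
  | add s t hs ht => simp only [map_add, hs, ht, TensorProduct.tmul_add]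

variable {θ}

theorem psi_theta (hθ : Coact θ) (u : B') : psi θ (θ u) = u ⊗ₜ 1 := by
  rw [← kap_map_theta, hθ.coassoc, kap_map_inclR, hθ.counit]

theorem phi_comm_theta (hθ : Coact θ) (u : B') :
    phi θ (Algebra.TensorProduct.comm A A' B' (θ u)) = 1 ⊗ₜ u := by
  rw [← kap'_map_theta, hθ.coassoc, kap'_map_inclR, hθ.counit]

theorem psi_phi (hθ : Coact θ) (t : B' ⊗[A] A') : psi θ (phi θ t) = t := by
  induction t using TensorProduct.induction_on with
  | zero => simp
  | tmul u z =>
    rw [phi_tmul, map_mul, psi_theta hθ, psi_tmul, hθ.lin]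
    simp [Algebra.TensorProduct.tmul_mul_tmul]
  | add s t hs ht => simp only [map_add, hs, ht]

theorem phi_psi (hθ : Coact θ) (t : A' ⊗[A] B') : phi θ (psi θ t) = t := by
  induction t using TensorProduct.induction_on with
  | zero => simp
  | tmul x v =>
    rw [psi_tmul, map_mul, phi_comm_theta hθ, phi_tmul, hθ.lin]
    simp [Algebra.TensorProduct.tmul_mul_tmul]
  | add s t hs ht => simp only [map_add, hs, ht]

theorem phi_bijective (hθ : Coact θ) : Function.Bijective (phi θ) :=
  ⟨Function.LeftInverse.injective (psi_phi hθ), Function.RightInverse.surjective (phi_psi hθ)⟩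


variable (θ)

/-- The descended subalgebra: elements `u` with `θ u = 1 ⊗ u`. -/
noncomputable def descAlg : Subalgebra A B' :=
  AlgHom.equalizer θ Algebra.TensorProduct.includeRight

theorem mem_descAlg (u : B') : u ∈ descAlg θ ↔ θ u = 1 ⊗ₜ u := by
  rw [descAlg, AlgHom.mem_equalizer]
  rfl

/-- The comparison map `A' ⊗ B → B'`. -/
noncomputable def descMap : A' ⊗[A] descAlg θ →ₐ[A] B' :=
  (mulMap A A' B').comp (Algebra.TensorProduct.map (AlgHom.id A A') (descAlg θ).val)

@[simp] theorem descMap_tmul (x : A') (u : descAlg θ) :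
    descMap θ (x ⊗ₜ u) = algebraMap A' B' x * u := by
  simp [descMap]

variable {θ}

theorem descMap_bijective [Module.FaithfullyFlat A A'] (hθ : Coact θ) :
    Function.Bijective (descMap θ) := by
  have key := Groth.Agent.S19547.result A A' B' (phi θ).toLinearMap (phi_bijective hθ)
    (phi_h1 hθ) phi_h2 (phi_cocycle hθ) (Subalgebra.toSubmodule (descAlg θ)) (fun u => by
      rw [Subalgebra.mem_toSubmodule, mem_descAlg, AlgHom.toLinearMap_apply, phi_tmul, map_one,
        ← Algebra.TensorProduct.one_def, mul_one])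
  have e : ∀ t, descMap θ t = ((TensorProduct.lift (Algebra.lsmul A A B').toLinearMap) ∘ₗ
      (LinearMap.lTensor A' (Subalgebra.toSubmodule (descAlg θ)).subtype)) t := by
    intro t
    induction t using TensorProduct.induction_on with
    | zero => simp
    | tmul x v => simp [Algebra.smul_def]
    | add s t hs ht => simp only [map_add, hs, ht]
  have e' : (descMap θ : A' ⊗[A] descAlg θ → B') = ((TensorProduct.lift
      (Algebra.lsmul A A B').toLinearMap) ∘ₗ
      (LinearMap.lTensor A' (Subalgebra.toSubmodule (descAlg θ)).subtype)) := funext e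
  rw [e']
  exact key

end Groth.Agent.H53.Desc
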