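import Groth.Agent.H53.Desc.SheafDesc
import Groth.Agent.H53.LocPBase
import Groth.Agent.S10532

/-! Effective fpqc descent for affine schemes over an affine base: a sheaf (algebraic space) over
`h_Z` whose base change along a faithfully flat `W ⟶ Z` of affine schemes is an affine scheme is
itself an affine scheme. -/

set_option autoImplicit false
universe u

open TensorProduct CategoryTheory CategoryTheory.Limits AlgebraicGeometry
open AlgSp

namespace Groth.Agent.H53.Desc

variable {S : Scheme.{u}}

theorem etale_le_flat : (@Etale : MorphismProperty Scheme.{u}) ≤ @Flat := fun _ _ f hf => by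
  have : Etale f := hf
  infer_instance

/-- A flat surjective morphism of affine schemes is an fpqc covering. -/
theorem isFpqcCover_single {U V : Over S} (hU : IsAffine U.left) (hV : IsAffine V.left)
    (ε : V ⟶ U) (hfl : Flat ε.left) (hs : Surjective ε.left) :
    IsFpqcCover (fun _ : PUnit.{u+1} => (yon S).obj V) (fun _ => (yon S).map ε) := by
  refine ⟨fun _ => Groth.Agent.H53.locP_yon_map_of @Flat etale_le_flat ε hfl, ?_⟩
  intro Z hZ h
  obtain ⟨h₀, rfl⟩ := (yon S).map_surjective h
  let W : Over S := Over.mk (pullback.fst h₀.left ε.left ≫ Z.hom)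
  let c : W ⟶ Z := Over.homMk (pullback.fst h₀.left ε.left) rfl
  let l : W ⟶ V := Over.homMk (pullback.snd h₀.left ε.left) (by
    change pullback.snd h₀.left ε.left ≫ V.hom = pullback.fst h₀.left ε.left ≫ Z.hom
    rw [← Over.w ε, ← Category.assoc, ← pullback.condition, Category.assoc, Over.w h₀])
  refine ⟨1, fun _ => W, fun _ => c, fun _ => ?_, fun _ => ?_, fun z => ⟨0, ?_⟩,
    fun _ => ⟨PUnit.unit, (yon S).map l, ?_⟩⟩
  · change IsAffine (pullback h₀.left ε.left)
    infer_instance
  · change Flat (pullback.fst h₀.left ε.left)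
    infer_instance
  · have : Surjective (pullback.fst h₀.left ε.left) := inferInstance
    exact this.surj z
  · rw [← Functor.map_comp, ← Functor.map_comp]
    congr 1
    ext
    exact pullback.condition.symm

variable {A A' B' : Type u} [CommRing A] [CommRing A'] [CommRing B']
  [Algebra A A'] [Algebra A' B'] [Algebra A B'] [IsScalarTower A A' B']
  [Module.FaithfullyFlat A A'] {sZ : Spec (CommRingCat.of A) ⟶ S}
  {F : Sp S} {π : F ⟶ (yon S).obj (ovZ A sZ)} {t : (yon S).obj (ovV A A' B' sZ) ⟶ F}
  (sq : IsPullback t ((yon S).map (ova A A' B' sZ)) π ((yon S).map (ovc A A' sZ)))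

theorem flat_surjective_eMap : Flat (sheafDD sq).eMap ∧ Surjective (sheafDD sq).eMap := by
  have h := (sheafDD sq).isPullback_eMap
  exact ⟨MorphismProperty.of_isPullback (P := @Flat) h inferInstance,
    MorphismProperty.of_isPullback (P := @Surjective) h inferInstance⟩

theorem isIso_eta (hF : IsAlgSpace F) : IsIso (eta sq) := by
  have hcov : IsFpqcCover (fun _ : PUnit.{u+1} => (yon S).obj (ovV A A' B' sZ))
      (fun _ => (yon S).map (ovε sq)) :=
    isFpqcCover_single (by change IsAffine (Spec _); infer_instance)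
      (by change IsAffine (Spec _); infer_instance) (ovε sq)
      (flat_surjective_eMap sq).1 (flat_surjective_eMap sq).2
  exact (Groth.Agent.S10532.result S (fun _ : PUnit.{u+1} => (yon S).obj (ovV A A' B' sZ))
    (fun _ => (yon S).map (ovε sq)) (IsAlgSpace.yon_obj _) (fun _ => IsAlgSpace.yon_obj _) hcov
    (eta sq) hF (fun _ => (yon S).obj (ovV A A' B' sZ)) (fun _ => 𝟙 _) (fun _ => t)
    (fun _ => IsAlgSpace.yon_obj _) (fun _ => (isPullback_eta sq).flip)).2
    (fun _ => (inferInstance : IsIso (𝟙 ((yon S).obj (ovV A A' B' sZ)))))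

include sq in
/-- Effective fpqc descent of affine schemes, `Spec` form. -/
theorem exists_affine_of_fpqc_descent_spec (hF : IsAlgSpace F) :
    ∃ (U : Over S) (i : U ⟶ ovZ A sZ) (e : (yon S).obj U ≅ F),
      IsAffine U.left ∧ e.hom ≫ π = (yon S).map i := by
  have := isIso_eta sq hF
  refine ⟨ovU sq, ovi sq, (asIso (eta sq)).symm, ?_, ?_⟩
  · change IsAffine (Spec _)
    infer_instance
  · change inv (eta sq) ≫ π = _
    rw [IsIso.inv_comp_eq, eta_ovi]

end Groth.Agent.H53.Desc
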