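import Groth.Agent.H53.Desc.Effective

/-! Effective fpqc descent for affine schemes: general affine schemes over `S`. -/

set_option autoImplicit false
universe u

open TensorProduct CategoryTheory CategoryTheory.Limits AlgebraicGeometry
open AlgSp

namespace Groth.Agent.H53.Desc

variable {S : Scheme.{u}}

/-- Effective descent of affine schemes along a flat surjective morphism of affine schemes: a sheaf
`F` over `h_Z` which is an algebraic space and whose base change to `W` is (representable by) an
affine scheme `V` is representable by an affine scheme. -/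
theorem exists_affine_of_fpqc_descent {Z W V : Over S} (hZ : IsAffine Z.left)
    (hW : IsAffine W.left) (hV : IsAffine V.left) (c : W ⟶ Z) (a : V ⟶ W) {F : Sp S}
    (hF : IsAlgSpace F) (π : F ⟶ (yon S).obj Z) (t : (yon S).obj V ⟶ F)
    (sq : IsPullback t ((yon S).map a) π ((yon S).map c))
    (hfl : Flat c.left) (hsurj : Surjective c.left) :
    ∃ (U : Over S) (i : U ⟶ Z) (e : (yon S).obj U ≅ F),
      IsAffine U.left ∧ e.hom ≫ π = (yon S).map i := by
  let A : Type u := Γ(Z.left, ⊤)
  let A' : Type u := Γ(W.left, ⊤)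
  let B' : Type u := Γ(V.left, ⊤)
  let _ : Algebra A A' := c.left.appTop.hom.toAlgebra
  let _ : Algebra A' B' := a.left.appTop.hom.toAlgebra
  let _ : Algebra A B' := (c.left.appTop ≫ a.left.appTop).hom.toAlgebra
  have : IsScalarTower A A' B' := IsScalarTower.of_algebraMap_eq (fun x => rfl)
  let s : Spec (CommRingCat.of A) ⟶ S := Z.left.isoSpec.inv ≫ Z.hom
  have hc : pMap A A' = Spec.map c.left.appTop := rfl
  have ha : aMap A' B' = Spec.map a.left.appTop := rfl
  have hff : Module.FaithfullyFlat A A' := by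
    have h1 : Flat c.left ∧ Surjective c.left := ⟨hfl, hsurj⟩
    rw [Flat.flat_and_surjective_iff_faithfullyFlat_of_isAffine] at h1
    exact RingHom.faithfullyFlat_algebraMap_iff.1 h1
  let eZ : Z ≅ ovZ A s := Over.isoMk Z.left.isoSpec (by simp [s])
  let eW : W ≅ ovW A A' s := Over.isoMk W.left.isoSpec (by
    change W.left.isoSpec.hom ≫ pMap A A' ≫ Z.left.isoSpec.inv ≫ Z.hom = W.hom
    rw [hc, Scheme.isoSpec_hom_naturality_assoc]
    simp)
  let eV : V ≅ ovV A A' B' s := Over.isoMk V.left.isoSpec (by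
    change V.left.isoSpec.hom ≫ aMap A' B' ≫ pMap A A' ≫ Z.left.isoSpec.inv ≫ Z.hom = V.hom
    rw [hc, ha, Scheme.isoSpec_hom_naturality_assoc, Scheme.isoSpec_hom_naturality_assoc]
    simp)
  have hcomm1 : eW.hom ≫ ovc A A' s = c ≫ eZ.hom := by
    ext
    change W.left.isoSpec.hom ≫ pMap A A' = c.left ≫ Z.left.isoSpec.hom
    rw [hc, Scheme.isoSpec_hom_naturality]
  have hcomm2 : eV.hom ≫ ova A A' B' s = a ≫ eW.hom := by
    ext
    change V.left.isoSpec.hom ≫ aMap A' B' = a.left ≫ W.left.isoSpec.hom
    rw [ha, Scheme.isoSpec_hom_naturality]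
  have sq' : IsPullback ((yon S).map eV.inv ≫ t) ((yon S).map (ova A A' B' s))
      (π ≫ (yon S).map eZ.hom) ((yon S).map (ovc A A' s)) := by
    refine IsPullback.of_iso sq ((yon S).mapIso eV) (Iso.refl _) ((yon S).mapIso eW)
      ((yon S).mapIso eZ) ?_ ?_ ?_ ?_
    · simp [← Functor.map_comp_assoc]
    · simp only [Functor.mapIso_hom, ← Functor.map_comp, hcomm2]
    · simp
    · simp only [Functor.mapIso_hom, ← Functor.map_comp, hcomm1]
  obtain ⟨U, i, e, hU, he⟩ := exists_affine_of_fpqc_descent_spec sq' hF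
  refine ⟨U, i ≫ eZ.inv, e, hU, ?_⟩
  rw [Functor.map_comp, ← he, Category.assoc, Category.assoc, ← Functor.map_comp, Iso.hom_inv_id]
  erw [CategoryTheory.Functor.map_id]
  rw [Category.comp_id]

end Groth.Agent.H53.Desc
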