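import Groth.Agent.H53.Desc.Effective

/-! The comparison map from a sheaf to a descended scheme, general form. -/

set_option autoImplicit false
universe u

open CategoryTheory CategoryTheory.Limits AlgebraicGeometry
open AlgSp

namespace Groth.Agent.H53.Desc

variable {S : Scheme.{u}} {Z W V U : Over S} (c : W ⟶ Z) (a : V ⟶ W) (ε : V ⟶ U) (i : U ⟶ Z)
  {F : Sp S} {π : F ⟶ (yon S).obj Z} {t : (yon S).obj V ⟶ F}

/-- Key lemma: a section of `F` over `T` determines a point of the descended scheme,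
characterised by its values on local lifts of the section to `V`. -/
theorem existsUnique_desc_point_gen [Flat c.left] [Surjective c.left] [QuasiCompact c.left]
    (hεi : ε ≫ i = a ≫ c)
    (sq : IsPullback t ((yon S).map a) π ((yon S).map c))
    (hinv : ∀ {Q : Over S} (v v₁ : Q ⟶ V), (yon S).map v₁ ≫ t = (yon S).map v ≫ t →
      v₁ ≫ ε = v ≫ ε)
    {T : Over S} (ξ : (yon S).obj T ⟶ F) :
    ∃! d : T ⟶ U, ∀ (T₁ : Over S) (g : T₁ ⟶ T) (v : T₁ ⟶ V),
      (yon S).map v ≫ t = (yon S).map g ≫ ξ → g ≫ d = v ≫ ε := by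
  let z : T ⟶ Z := (yon S).preimage (ξ ≫ π)
  have hz : (yon S).map z = ξ ≫ π := (yon S).map_preimage _
  let g' : pullback z.left c.left ⟶ T.left := pullback.fst _ _
  let x' : pullback z.left c.left ⟶ W.left := pullback.snd _ _
  have hcond : g' ≫ z.left = x' ≫ c.left := pullback.condition
  let T' : Over S := Over.mk (g' ≫ T.hom)
  let gT : T' ⟶ T := Over.homMk g' rfl
  have hx'S : x' ≫ W.hom = T'.hom := by
    change x' ≫ W.hom = g' ≫ T.hom
    rw [← Over.w c, ← Category.assoc, ← hcond, Category.assoc, Over.w z]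
  let xT : T' ⟶ W := Over.homMk x' hx'S
  have hgz : gT ≫ z = xT ≫ c := by
    ext
    exact hcond
  have hcompat : ((yon S).map gT ≫ ξ) ≫ π = (yon S).map xT ≫ (yon S).map c := by
    rw [Category.assoc, ← hz, ← Functor.map_comp, ← Functor.map_comp, hgz]
  let vT : T' ⟶ V := (yon S).preimage (sq.lift _ _ hcompat)
  have hvT : (yon S).map vT = sq.lift _ _ hcompat := (yon S).map_preimage _
  have hvT1 : (yon S).map vT ≫ t = (yon S).map gT ≫ ξ := by rw [hvT, sq.lift_fst]
  have hvT2 : vT ≫ a = xT :=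
    (yon S).map_injective (by rw [Functor.map_comp, hvT, sq.lift_snd])
  have hFl : Flat g' := by
    change Flat (pullback.fst z.left c.left)
    infer_instance
  have hSu : Surjective g' := by
    change Surjective (pullback.fst z.left c.left)
    infer_instance
  have hQC : QuasiCompact g' := by
    change QuasiCompact (pullback.fst z.left c.left)
    infer_instance
  have hEE : EffectiveEpi g' := inferInstance
  have hdesc : ∀ {Q : Scheme.{u}} (g₁ g₂ : Q ⟶ pullback z.left c.left),
      g₁ ≫ g' = g₂ ≫ g' → g₁ ≫ (vT ≫ ε).left = g₂ ≫ (vT ≫ ε).left := by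
    intro Q g₁ g₂ h12
    let Q' : Over S := Over.mk (g₁ ≫ T'.hom)
    let k₁ : Q' ⟶ T' := Over.homMk g₁ rfl
    let k₂ : Q' ⟶ T' := Over.homMk g₂ (by
      change g₂ ≫ g' ≫ T.hom = g₁ ≫ g' ≫ T.hom
      rw [← Category.assoc, ← h12, Category.assoc])
    have hk : k₁ ≫ gT = k₂ ≫ gT := by
      ext
      exact h12
    have e : (yon S).map (k₂ ≫ vT) ≫ t = (yon S).map (k₁ ≫ vT) ≫ t := by
      rw [Functor.map_comp, Functor.map_comp, Category.assoc, Category.assoc, hvT1,
        ← Category.assoc, ← Category.assoc, ← Functor.map_comp, ← Functor.map_comp, hk]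
    have h3 := hinv (k₁ ≫ vT) (k₂ ≫ vT) e
    have h4 := congrArg (fun k => k.left) h3
    change (g₂ ≫ vT.left) ≫ ε.left = (g₁ ≫ vT.left) ≫ ε.left at h4
    change g₁ ≫ vT.left ≫ ε.left = g₂ ≫ vT.left ≫ ε.left
    rw [← Category.assoc, ← Category.assoc, h4]
  let d₀ : T.left ⟶ U.left := EffectiveEpi.desc g' (vT ≫ ε).left hdesc
  have hd₀ : g' ≫ d₀ = (vT ≫ ε).left := EffectiveEpi.fac g' _ hdesc
  have hd₀S : d₀ ≫ U.hom = T.hom := by
    rw [← cancel_epi g', ← Category.assoc, hd₀]
    exact Over.w (vT ≫ ε)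
  let d : T ⟶ U := Over.homMk d₀ hd₀S
  have hgd : gT ≫ d = vT ≫ ε := by
    ext
    exact hd₀
  refine ⟨d, ?_, ?_⟩
  · intro T₁ g v hv
    have h1 : (yon S).map (g ≫ z) = (yon S).map (v ≫ a ≫ c) := by
      rw [Functor.map_comp, hz, ← Category.assoc, ← hv, Category.assoc, sq.w,
        Functor.map_comp, Functor.map_comp]
    have h2 : g ≫ z = v ≫ a ≫ c := (yon S).map_injective h1
    have h3 : g.left ≫ z.left = (v ≫ a).left ≫ c.left :=
      congrArg (fun k => k.left) h2
    let k₀ : T₁.left ⟶ pullback z.left c.left :=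
      pullback.lift g.left (v ≫ a).left h3
    have hk₀1 : k₀ ≫ g' = g.left := pullback.lift_fst _ _ _
    have hk₀2 : k₀ ≫ x' = (v ≫ a).left := pullback.lift_snd _ _ _
    let k : T₁ ⟶ T' := Over.homMk k₀ (by
      change k₀ ≫ g' ≫ T.hom = T₁.hom
      rw [← Category.assoc, hk₀1]
      exact Over.w g)
    have hkg : k ≫ gT = g := by
      ext
      exact hk₀1
    have hkx : k ≫ xT = v ≫ a := by
      ext
      exact hk₀2
    have hkv : k ≫ vT = v := by
      apply (yon S).map_injective
      apply sq.hom_ext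
      · rw [Functor.map_comp, Category.assoc, hvT1, ← Category.assoc, ← Functor.map_comp, hkg,
          hv]
      · rw [← Functor.map_comp, ← Functor.map_comp, Category.assoc, hvT2, hkx]
    rw [← hkg, Category.assoc, hgd, ← Category.assoc, hkv]
  · intro d' hd'
    have h1 := hd' T' gT vT hvT1
    have h2 : gT ≫ d' = gT ≫ d := h1.trans hgd.symm
    have h3 : g' ≫ d'.left = g' ≫ d.left := congrArg (fun k => k.left) h2
    ext
    exact (cancel_epi g').1 h3

/-- The comparison map from the sheaf to the descended scheme, with its basic properties. -/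
theorem exists_eta_gen [Flat c.left] [Surjective c.left] [QuasiCompact c.left]
    (sqU : IsPullback a ε c i)
    (sq : IsPullback t ((yon S).map a) π ((yon S).map c))
    (hinv : ∀ {Q : Over S} (v v₁ : Q ⟶ V), (yon S).map v₁ ≫ t = (yon S).map v ≫ t →
      v₁ ≫ ε = v ≫ ε) :
    ∃ η : F ⟶ (yon S).obj U, t ≫ η = (yon S).map ε ∧ η ≫ (yon S).map i = π ∧
      IsPullback (𝟙 ((yon S).obj V)) t ((yon S).map ε) η := by
  have hεi : ε ≫ i = a ≫ c := sqU.w.symm
  have hex := fun {T : Over S} (ξ : (yon S).obj T ⟶ F) =>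
    existsUnique_desc_point_gen c a ε i hεi sq hinv ξ
  let dP : ∀ {T : Over S} (ξ : (yon S).obj T ⟶ F), T ⟶ U := fun ξ =>
    Classical.choose (hex ξ).exists
  have dP_spec : ∀ {T : Over S} (ξ : (yon S).obj T ⟶ F) {T₁ : Over S} (g : T₁ ⟶ T)
      (v : T₁ ⟶ V), (yon S).map v ≫ t = (yon S).map g ≫ ξ → g ≫ dP ξ = v ≫ ε :=
    fun ξ T₁ g v hv => Classical.choose_spec (hex ξ).exists T₁ g v hv
  have dP_unique : ∀ {T : Over S} (ξ : (yon S).obj T ⟶ F) (d' : T ⟶ U),
      (∀ (T₁ : Over S) (g : T₁ ⟶ T) (v : T₁ ⟶ V),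
        (yon S).map v ≫ t = (yon S).map g ≫ ξ → g ≫ d' = v ≫ ε) → d' = dP ξ :=
    fun ξ d' hd' => (hex ξ).unique hd' (fun T₁ g v hv => dP_spec ξ g v hv)
  have dP_comp : ∀ {T T₂ : Over S} (f : T₂ ⟶ T) (ξ : (yon S).obj T ⟶ F),
      dP ((yon S).map f ≫ ξ) = f ≫ dP ξ := by
    intro T T₂ f ξ
    symm
    apply dP_unique
    intro T₁ g v hv
    rw [← Category.assoc]
    apply dP_spec
    rw [hv, Functor.map_comp, Category.assoc]
  have dP_map_t : ∀ {T : Over S} (v : T ⟶ V), dP ((yon S).map v ≫ t) = v ≫ ε := by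
    intro T v
    have := dP_spec ((yon S).map v ≫ t) (𝟙 T) v (by simp)
    simpa using this
  obtain ⟨η, hη⟩ : ∃ η : F ⟶ (yon S).obj U,
      ∀ (T : Over S) (ξ : (yon S).obj T ⟶ F), ξ ≫ η = (yon S).map (dP ξ) :=
    Groth.Agent.H53.sp_hom_mk (fun T ξ => (yon S).map (dP ξ)) (fun T₂ T f ξ => by
      rw [dP_comp, Functor.map_comp])
  have h_tη : t ≫ η = (yon S).map ε := by
    have h := hη V ((yon S).map (𝟙 V) ≫ t)
    rw [dP_map_t, Category.id_comp] at h
    simpa using h
  have h_ηi : η ≫ (yon S).map i = π := by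
    refine Groth.Agent.H53.sp_hom_ext fun T ξ => ?_
    rw [← Category.assoc, hη, ← Functor.map_comp]
    let z : T ⟶ Z := (yon S).preimage (ξ ≫ π)
    have hz : (yon S).map z = ξ ≫ π := (yon S).map_preimage _
    rw [← hz]
    congr 1
    let g' : pullback z.left c.left ⟶ T.left := pullback.fst _ _
    let x' : pullback z.left c.left ⟶ W.left := pullback.snd _ _
    have hcond : g' ≫ z.left = x' ≫ c.left := pullback.condition
    let T' : Over S := Over.mk (g' ≫ T.hom)
    let gT : T' ⟶ T := Over.homMk g' rfl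
    have hx'S : x' ≫ W.hom = T'.hom := by
      change x' ≫ W.hom = g' ≫ T.hom
      rw [← Over.w c, ← Category.assoc, ← hcond, Category.assoc, Over.w z]
    let xT : T' ⟶ W := Over.homMk x' hx'S
    have hgz : gT ≫ z = xT ≫ c := by
      ext
      exact hcond
    have hcompat : ((yon S).map gT ≫ ξ) ≫ π = (yon S).map xT ≫ (yon S).map c := by
      rw [Category.assoc, ← hz, ← Functor.map_comp, ← Functor.map_comp, hgz]
    let vT : T' ⟶ V := (yon S).preimage (sq.lift _ _ hcompat)
    have hvT : (yon S).map vT = sq.lift _ _ hcompat := (yon S).map_preimage _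
    have hvT1 : (yon S).map vT ≫ t = (yon S).map gT ≫ ξ := by rw [hvT, sq.lift_fst]
    have hvT2 : vT ≫ a = xT :=
      (yon S).map_injective (by rw [Functor.map_comp, hvT, sq.lift_snd])
    have hSu : Surjective g' := by
      change Surjective (pullback.fst z.left c.left)
      infer_instance
    have hFl : Flat g' := by
      change Flat (pullback.fst z.left c.left)
      infer_instance
    have hQC : QuasiCompact g' := by
      change QuasiCompact (pullback.fst z.left c.left)
      infer_instance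
    have hEE : EffectiveEpi g' := inferInstance
    have h1 : gT ≫ dP ξ ≫ i = gT ≫ z := by
      rw [← Category.assoc, dP_spec ξ gT vT hvT1, Category.assoc, hεi,
        ← Category.assoc, hvT2, hgz]
    have h2 : g' ≫ (dP ξ ≫ i).left = g' ≫ z.left := congrArg (fun k => k.left) h1
    ext
    exact (cancel_epi g').1 h2
  refine ⟨η, h_tη, h_ηi, ?_⟩
  have R : IsPullback ((yon S).map a) ((yon S).map ε) ((yon S).map c) ((yon S).map i) :=
    sqU.map (yon S)
  refine IsPullback.of_right ?_ ?_ R
  · rw [Category.id_comp, h_ηi]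
    exact sq.flip
  · rw [Category.id_comp, h_tη]

/-- A flat surjective affine morphism is an fpqc covering. -/
theorem isFpqcCover_single_of_isAffineHom {U V : Over S} (ε : V ⟶ U) (haff : IsAffineHom ε.left)
    (hfl : Flat ε.left) (hs : Surjective ε.left) :
    IsFpqcCover (fun _ : PUnit.{u+1} => (yon S).obj V) (fun _ => (yon S).map ε) := by
  refine ⟨fun _ => Groth.Agent.H53.locP_yon_map_of @Flat etale_le_flat ε hfl, ?_⟩
  intro Z hZ h
  obtain ⟨h₀, rfl⟩ := (yon S).map_surjective h
  let W : Over S := Over.mk (pullback.fst h₀.left ε.left ≫ Z.hom)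
  let c : W ⟶ Z := Over.homMk (pullback.fst h₀.left ε.left) rfl
  let l : W ⟶ V := Over.homMk (pullback.snd h₀.left ε.left) (by
    change pullback.snd h₀.left ε.left ≫ V.hom = pullback.fst h₀.left ε.left ≫ Z.hom
    rw [← Over.w ε, ← Category.assoc, ← pullback.condition, Category.assoc, Over.w h₀])
  refine ⟨1, fun _ => W, fun _ => c, fun _ => ?_, fun _ => ?_, fun z => ⟨0, ?_⟩,
    fun _ => ⟨PUnit.unit, (yon S).map l, ?_⟩⟩
  · change IsAffine (pullback h₀.left ε.left)
    have : IsAffineHom (pullback.fst h₀.left ε.left) := inferInstance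
    exact isAffine_of_isAffineHom (pullback.fst h₀.left ε.left)
  · change Flat (pullback.fst h₀.left ε.left)
    infer_instance
  · have : Surjective (pullback.fst h₀.left ε.left) := inferInstance
    exact this.surj z
  · rw [← Functor.map_comp, ← Functor.map_comp]
    congr 1
    ext
    exact pullback.condition.symm

end Groth.Agent.H53.Desc
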