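import Mathlib.AlgebraicGeometry.Morphisms.Flat
import Mathlib.AlgebraicGeometry.QuasiAffine
import Mathlib.AlgebraicGeometry.PullbackCarrier

/-! Generic lemmas for quasi-affine descent: flat base change of global sections along the
affinization map and the universal property of maps inducing isomorphisms on global sections. -/

set_option autoImplicit false
universe u

open CategoryTheory CategoryTheory.Limits AlgebraicGeometry

namespace Groth.Agent.H53.Desc

set_option backward.isDefEq.respectTransparency false in
/-- Flat base change of global sections: if `c : Y ⟶ Spec R` induces an isomorphism on global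
sections, `Y` is qcqs and `q : T ⟶ Spec R` is flat with `T` affine, then the base change of `c`
along `q` induces an isomorphism on global sections. -/
theorem isIso_appTop_pullback_fst {Y T : Scheme.{u}} {R : CommRingCat.{u}} [CompactSpace Y]
    [QuasiSeparatedSpace Y] [IsAffine T] (c : Y ⟶ Spec R) [IsIso c.appTop] (q : T ⟶ Spec R)
    [Flat q] : IsIso (pullback.fst q c).appTop := by
  have H : IsPullback (pullback.snd q c) (pullback.fst q c) c q :=
    (IsPullback.of_hasPullback q c).flip
  have hUY : (⊤ : (pullback q c).Opens) = pullback.snd q c ⁻¹ᵁ ⊤ ⊓ pullback.fst q c ⁻¹ᵁ ⊤ := by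
    simp
  have h1 := isIso_pushoutSection_of_isQuasiSeparated_of_flat_right H (US := ⊤) (UT := ⊤)
    (UX := ⊤) (by simp) (by simp) hUY (isAffineOpen_top _) (isAffineOpen_top _)
    (by simpa using CompactSpace.isCompact_univ)
    (by simpa using (isQuasiSeparated_univ_iff.mpr inferInstance))
  have h2 : IsIso (c.appLE ⊤ ⊤ (by simp)) := by
    have : c.appLE ⊤ ⊤ (by simp) = c.appTop := by
      simp [Scheme.Hom.appTop, Scheme.Hom.app_eq_appLE]
    rw [this]
    infer_instance
  have h3 : pushout.inr (c.appLE ⊤ ⊤ (by simp)) (q.appLE ⊤ ⊤ (by simp)) ≫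
      pushoutSection H (US := ⊤) (UT := ⊤) (UX := ⊤) (by simp) (by simp) hUY =
      (pullback.fst q c).appLE ⊤ ⊤ (by simp) := by
    simp [pushoutSection]
  have h4 : IsIso ((pullback.fst q c).appLE ⊤ ⊤ (by simp)) := by
    rw [← h3]
    infer_instance
  have : (pullback.fst q c).appLE ⊤ ⊤ (by simp) = (pullback.fst q c).appTop := by
    simp [Scheme.Hom.appTop, Scheme.Hom.app_eq_appLE]
  rwa [this] at h4

/-- Maps to an affine scheme are determined by their restriction along a map inducing an
isomorphism on global sections. -/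
theorem hom_ext_of_isIso_appTop {P T X : Scheme.{u}} [IsAffine X] (k : P ⟶ T) [IsIso k.appTop]
    {f g : T ⟶ X} (h : k ≫ f = k ≫ g) : f = g := by
  apply ext_of_isAffine
  have h1 := congrArg Scheme.Hom.appTop h
  rw [Scheme.Hom.comp_appTop, Scheme.Hom.comp_appTop] at h1
  exact (cancel_mono k.appTop).1 h1

/-- Maps to an affine scheme extend along a map inducing an isomorphism on global sections. -/
theorem exists_extend_of_isIso_appTop {P T : Scheme.{u}} {R : CommRingCat.{u}} (k : P ⟶ T)
    [IsIso k.appTop] (f : P ⟶ Spec R) : ∃ f' : T ⟶ Spec R, k ≫ f' = f := by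
  refine ⟨T.toSpecΓ ≫ Spec.map ((Scheme.ΓSpecIso R).inv ≫ f.appTop ≫ inv k.appTop), ?_⟩
  rw [Scheme.toSpecΓ_naturality_assoc, ← Spec.map_comp]
  have : ((Scheme.ΓSpecIso R).inv ≫ f.appTop ≫ inv k.appTop) ≫ k.appTop =
      (Scheme.ΓSpecIso R).inv ≫ f.appTop := by
    simp
  rw [this, Spec.map_comp, ← Scheme.toSpecΓ_naturality_assoc, toSpecΓ_SpecMap_ΓSpecIso_inv,
    Category.comp_id]

end Groth.Agent.H53.Desc
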