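import Groth.Agent.H53.Desc.SheafDesc
import Groth.Agent.H53.Desc.QAffGeneric

/-! Effective descent for quasi-affine schemes over an affine faithfully flat cover: from a descent
datum (functor of points form) on a scheme `V` over `Spec A'` with an open immersion
`j : V ⟶ Spec B'` inducing an isomorphism on global sections, to an affine descent datum on
`Spec B'`. -/

set_option autoImplicit false
universe u

open TensorProduct CategoryTheory CategoryTheory.Limits AlgebraicGeometry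

namespace Groth.Agent.H53.Desc

variable (A : Type u) {A' : Type u} [CommRing A] [CommRing A'] [Algebra A A']

/-- A descent datum on a scheme `V` over `Spec A'` relative to `Spec A' ⟶ Spec A`, in functor of
points form. -/
structure GenDD {V : Scheme.{u}} (a : V ⟶ Spec (CommRingCat.of A')) where
  /-- transport of points -/
  Φ : ∀ {T : Scheme.{u}} (v : T ⟶ V) (x : T ⟶ Spec (CommRingCat.of A')),
    v ≫ a ≫ pMap A A' = x ≫ pMap A A' → (T ⟶ V)
  Φ_over : ∀ {T : Scheme.{u}} (v : T ⟶ V) (x : T ⟶ Spec (CommRingCat.of A'))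
    (h : v ≫ a ≫ pMap A A' = x ≫ pMap A A'), Φ v x h ≫ a = x
  Φ_natural : ∀ {T T' : Scheme.{u}} (g : T' ⟶ T) (v : T ⟶ V)
    (x : T ⟶ Spec (CommRingCat.of A')) (h : v ≫ a ≫ pMap A A' = x ≫ pMap A A')
    (h' : (g ≫ v) ≫ a ≫ pMap A A' = (g ≫ x) ≫ pMap A A'),
    g ≫ Φ v x h = Φ (g ≫ v) (g ≫ x) h'
  Φ_self : ∀ {T : Scheme.{u}} (v : T ⟶ V)
    (h : v ≫ a ≫ pMap A A' = (v ≫ a) ≫ pMap A A'), Φ v (v ≫ a) h = v
  Φ_comp : ∀ {T : Scheme.{u}} (v : T ⟶ V)
    (x₁ x₂ : T ⟶ Spec (CommRingCat.of A')) (h₁ : v ≫ a ≫ pMap A A' = x₁ ≫ pMap A A')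
    (h₂ : Φ v x₁ h₁ ≫ a ≫ pMap A A' = x₂ ≫ pMap A A')
    (h₃ : v ≫ a ≫ pMap A A' = x₂ ≫ pMap A A'), Φ (Φ v x₁ h₁) x₂ h₂ = Φ v x₂ h₃

variable {A}

theorem GenDD.Φ_congr {V : Scheme.{u}} {a : V ⟶ Spec (CommRingCat.of A')} (D : GenDD A a)
    {T : Scheme.{u}} {v v' : T ⟶ V} {x x' : T ⟶ Spec (CommRingCat.of A')} (hv : v = v')
    (hx : x = x') (h : v ≫ a ≫ pMap A A' = x ≫ pMap A A')
    (h' : v' ≫ a ≫ pMap A A' = x' ≫ pMap A A') : D.Φ v x h = D.Φ v' x' h' := by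
  subst hv hx
  rfl

section Core

variable {B' : Type u} [CommRing B'] [Algebra A' B'] [Algebra A B'] [IsScalarTower A A' B']
  [Module.FaithfullyFlat A A']
  {V : Scheme.{u}} {a : V ⟶ Spec (CommRingCat.of A')} (D : GenDD A a)
  (j : V ⟶ Spec (CommRingCat.of B')) (hj : j ≫ aMap A' B' = a)

instance flat_wProj : Flat (wProj A A' B') :=
  MorphismProperty.of_isPullback (P := @Flat) (isPullback_proj (A := A) (A' := A') (B' := B'))
    inferInstance

variable (A A') in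
/-- `V ×_Z W`, as the pullback of `j` along the projection `V̄ ×_Z W ⟶ V̄`. -/
noncomputable abbrev qP : Scheme.{u} := pullback (wProj A A' B') j

variable (A A') in
/-- `V ×_Z W ⟶ V̄ ×_Z W`. -/
noncomputable abbrev qk : qP A A' j ⟶ Spec (CommRingCat.of (A' ⊗[A] B')) := pullback.fst _ _

variable (A A') in
/-- `V ×_Z W ⟶ V`. -/
noncomputable abbrev ql : qP A A' j ⟶ V := pullback.snd _ _

include hj in
theorem ql_cond : ql A A' j ≫ a ≫ pMap A A' = (qk A A' j ≫ yProj A A' B') ≫ pMap A A' := by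
  rw [← hj, Category.assoc, ← Category.assoc (ql A A' j), ← pullback.condition, Category.assoc,
    Category.assoc, wProj_cond]

/-- The transport morphism `V ×_Z W ⟶ V`. -/
noncomputable def qτ : qP A A' j ⟶ V := D.Φ (ql A A' j) (qk A A' j ≫ yProj A A' B') (ql_cond j hj)

variable [CompactSpace V] [QuasiSeparatedSpace V] [IsIso j.appTop]

instance isIso_qk_appTop : IsIso (qk A A' j).appTop :=
  isIso_appTop_pullback_fst j (wProj A A' B')

theorem exists_qτbar : ∃ τ' : Spec (CommRingCat.of (A' ⊗[A] B')) ⟶ Spec (CommRingCat.of B'),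
    qk A A' j ≫ τ' = qτ D j hj ≫ j :=
  exists_extend_of_isIso_appTop (qk A A' j) (qτ D j hj ≫ j)

/-- The extension `V̄ ×_Z W ⟶ V̄` of the transport morphism. -/
noncomputable def qτbar : Spec (CommRingCat.of (A' ⊗[A] B')) ⟶ Spec (CommRingCat.of B') :=
  Classical.choose (exists_qτbar D j hj)

theorem qk_qτbar : qk A A' j ≫ qτbar D j hj = qτ D j hj ≫ j :=
  Classical.choose_spec (exists_qτbar D j hj)

theorem qτbar_aMap : qτbar D j hj ≫ aMap A' B' = yProj A A' B' := by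
  apply hom_ext_of_isIso_appTop (qk A A' j)
  rw [← Category.assoc, qk_qτbar, Category.assoc, hj, qτ, D.Φ_over]

/-- Key compatibility: the extended transport restricted to points of `V`. -/
theorem lift_qτbar {T : Scheme.{u}} (v : T ⟶ V) (x : T ⟶ Spec (CommRingCat.of A'))
    (h : v ≫ a ≫ pMap A A' = x ≫ pMap A A')
    (h' : x ≫ pMap A A' = (v ≫ j) ≫ aMap A' B' ≫ pMap A A') :
    (isPullback_proj (A := A) (A' := A') (B' := B')).lift x (v ≫ j) h' ≫ qτbar D j hj =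
      D.Φ v x h ≫ j := by
  have sq := isPullback_proj (A := A) (A' := A') (B' := B')
  let n : T ⟶ qP A A' j := pullback.lift (sq.lift x (v ≫ j) h') v (sq.lift_snd _ _ _)
  have hn1 : n ≫ qk A A' j = sq.lift x (v ≫ j) h' := pullback.lift_fst _ _ _
  have hn2 : n ≫ ql A A' j = v := pullback.lift_snd _ _ _
  have hn3 : n ≫ qk A A' j ≫ yProj A A' B' = x := by
    rw [← Category.assoc, hn1, sq.lift_fst]
  rw [← hn1, Category.assoc, qk_qτbar, ← Category.assoc, qτ]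
  congr 1
  rw [D.Φ_natural n _ _ _ (by rw [hn2, hn3]; exact h)]
  exact D.Φ_congr hn2 hn3 _ _

/-- Points of `V̄ ×_Z W`. -/
noncomputable def qlift {T : Scheme.{u}} (x : T ⟶ Spec (CommRingCat.of A'))
    (v : T ⟶ Spec (CommRingCat.of B')) (h : x ≫ pMap A A' = v ≫ aMap A' B' ≫ pMap A A') :
    T ⟶ Spec (CommRingCat.of (A' ⊗[A] B')) :=
  (isPullback_proj (A := A) (A' := A') (B' := B')).lift x v h

omit [Module.FaithfullyFlat A A'] in
@[reassoc (attr := simp)]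
theorem qlift_fst {T : Scheme.{u}} (x : T ⟶ Spec (CommRingCat.of A'))
    (v : T ⟶ Spec (CommRingCat.of B')) (h : x ≫ pMap A A' = v ≫ aMap A' B' ≫ pMap A A') :
    qlift x v h ≫ yProj A A' B' = x := IsPullback.lift_fst _ _ _ _

omit [Module.FaithfullyFlat A A'] in
@[reassoc (attr := simp)]
theorem qlift_snd {T : Scheme.{u}} (x : T ⟶ Spec (CommRingCat.of A'))
    (v : T ⟶ Spec (CommRingCat.of B')) (h : x ≫ pMap A A' = v ≫ aMap A' B' ≫ pMap A A') :
    qlift x v h ≫ wProj A A' B' = v := IsPullback.lift_snd _ _ _ _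

omit [Module.FaithfullyFlat A A'] in
theorem qlift_ext {T : Scheme.{u}} {f g : T ⟶ Spec (CommRingCat.of (A' ⊗[A] B'))}
    (h1 : f ≫ yProj A A' B' = g ≫ yProj A A' B') (h2 : f ≫ wProj A A' B' = g ≫ wProj A A' B') :
    f = g :=
  (isPullback_proj (A := A) (A' := A') (B' := B')).hom_ext h1 h2

omit [Module.FaithfullyFlat A A'] in
theorem eq_qlift {T : Scheme.{u}} (f : T ⟶ Spec (CommRingCat.of (A' ⊗[A] B')))
    (x : T ⟶ Spec (CommRingCat.of A'))
    (v : T ⟶ Spec (CommRingCat.of B')) (h : x ≫ pMap A A' = v ≫ aMap A' B' ≫ pMap A A')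
    (h1 : f ≫ yProj A A' B' = x) (h2 : f ≫ wProj A A' B' = v) : f = qlift x v h :=
  qlift_ext (by rw [h1, qlift_fst]) (by rw [h2, qlift_snd])

omit [Module.FaithfullyFlat A A'] in
theorem comp_qlift {T T' : Scheme.{u}} (g : T' ⟶ T) (x : T ⟶ Spec (CommRingCat.of A'))
    (v : T ⟶ Spec (CommRingCat.of B')) (h : x ≫ pMap A A' = v ≫ aMap A' B' ≫ pMap A A')
    (h' : (g ≫ x) ≫ pMap A A' = (g ≫ v) ≫ aMap A' B' ≫ pMap A A') :
    g ≫ qlift x v h = qlift (g ≫ x) (g ≫ v) h' :=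
  eq_qlift _ _ _ _ (by rw [Category.assoc, qlift_fst]) (by rw [Category.assoc, qlift_snd])

omit [Module.FaithfullyFlat A A'] in
theorem qlift_congr {T : Scheme.{u}} {x x' : T ⟶ Spec (CommRingCat.of A')}
    {v v' : T ⟶ Spec (CommRingCat.of B')} (hx : x = x') (hv : v = v')
    (h : x ≫ pMap A A' = v ≫ aMap A' B' ≫ pMap A A')
    (h' : x' ≫ pMap A A' = v' ≫ aMap A' B' ≫ pMap A A') : qlift x v h = qlift x' v' h' := by
  subst hx hv
  rfl

/-- Key compatibility, in terms of `qlift`. -/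
theorem qlift_qτbar {T : Scheme.{u}} (v : T ⟶ V) (x : T ⟶ Spec (CommRingCat.of A'))
    (h : v ≫ a ≫ pMap A A' = x ≫ pMap A A')
    (h' : x ≫ pMap A A' = (v ≫ j) ≫ aMap A' B' ≫ pMap A A') :
    qlift x (v ≫ j) h' ≫ qτbar D j hj = D.Φ v x h ≫ j :=
  lift_qτbar D j hj v x h h'

/-- Transport of points of `V̄`. -/
noncomputable def qΦ {T : Scheme.{u}} (v : T ⟶ Spec (CommRingCat.of B'))
    (x : T ⟶ Spec (CommRingCat.of A')) (h : v ≫ aMap A' B' ≫ pMap A A' = x ≫ pMap A A') :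
    T ⟶ Spec (CommRingCat.of B') :=
  qlift x v h.symm ≫ qτbar D j hj

theorem qΦ_over {T : Scheme.{u}} (v : T ⟶ Spec (CommRingCat.of B'))
    (x : T ⟶ Spec (CommRingCat.of A')) (h : v ≫ aMap A' B' ≫ pMap A A' = x ≫ pMap A A') :
    qΦ D j hj v x h ≫ aMap A' B' = x := by
  rw [qΦ, Category.assoc, qτbar_aMap, qlift_fst]

theorem qΦ_natural {T T' : Scheme.{u}} (g : T' ⟶ T) (v : T ⟶ Spec (CommRingCat.of B'))
    (x : T ⟶ Spec (CommRingCat.of A')) (h : v ≫ aMap A' B' ≫ pMap A A' = x ≫ pMap A A')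
    (h' : (g ≫ v) ≫ aMap A' B' ≫ pMap A A' = (g ≫ x) ≫ pMap A A') :
    g ≫ qΦ D j hj v x h = qΦ D j hj (g ≫ v) (g ≫ x) h' := by
  rw [qΦ, qΦ, ← Category.assoc, comp_qlift g x v h.symm h'.symm]

theorem qΦ_congr {T : Scheme.{u}} {v v' : T ⟶ Spec (CommRingCat.of B')}
    {x x' : T ⟶ Spec (CommRingCat.of A')} (hv : v = v') (hx : x = x')
    (h : v ≫ aMap A' B' ≫ pMap A A' = x ≫ pMap A A')
    (h' : v' ≫ aMap A' B' ≫ pMap A A' = x' ≫ pMap A A') :
    qΦ D j hj v x h = qΦ D j hj v' x' h' := by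
  subst hv hx
  rfl

/-- Compatibility of the two transports. -/
theorem qΦ_comp_j {T : Scheme.{u}} (v : T ⟶ V) (x : T ⟶ Spec (CommRingCat.of A'))
    (h : v ≫ a ≫ pMap A A' = x ≫ pMap A A')
    (h' : (v ≫ j) ≫ aMap A' B' ≫ pMap A A' = x ≫ pMap A A') :
    qΦ D j hj (v ≫ j) x h' = D.Φ v x h ≫ j :=
  qlift_qτbar D j hj v x h h'.symm

theorem qΦ_self_univ : qΦ D j hj (𝟙 _) (aMap A' B') (by simp) = 𝟙 _ := by
  apply hom_ext_of_isIso_appTop j
  have hc : (j ≫ 𝟙 _) ≫ aMap A' B' ≫ pMap A A' = (j ≫ aMap A' B') ≫ pMap A A' := by simp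
  rw [qΦ_natural D j hj j (𝟙 _) (aMap A' B') (by simp) hc]
  have hc2 : (𝟙 V ≫ j) ≫ aMap A' B' ≫ pMap A A' = a ≫ pMap A A' := by
    rw [Category.id_comp, ← hj, Category.assoc]
  rw [qΦ_congr D j hj (v' := 𝟙 V ≫ j) (x' := a) (by simp) hj hc hc2,
    qΦ_comp_j D j hj (𝟙 V) a (by simp) hc2]
  have h3 := D.Φ_self (𝟙 V) (by simp)
  rw [D.Φ_congr rfl (Category.id_comp a).symm (by simp) (by simp), h3]
  simp

theorem qΦ_self {T : Scheme.{u}} (v : T ⟶ Spec (CommRingCat.of B'))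
    (h : v ≫ aMap A' B' ≫ pMap A A' = (v ≫ aMap A' B') ≫ pMap A A') :
    qΦ D j hj v (v ≫ aMap A' B') h = v := by
  have h1 := qΦ_natural D j hj v (𝟙 _) (aMap A' B') (by simp) (by simp)
  rw [qΦ_self_univ] at h1
  exact (qΦ_congr D j hj (Category.comp_id v).symm rfl _ _).trans
    (h1.symm.trans (Category.comp_id v))

theorem qΦ_eq_of_eq_comp_j {T : Scheme.{u}} (v' : T ⟶ Spec (CommRingCat.of B')) (v : T ⟶ V)
    (hv : v' = v ≫ j) (x : T ⟶ Spec (CommRingCat.of A'))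
    (h' : v' ≫ aMap A' B' ≫ pMap A A' = x ≫ pMap A A')
    (h : v ≫ a ≫ pMap A A' = x ≫ pMap A A') :
    qΦ D j hj v' x h' = D.Φ v x h ≫ j := by
  subst hv
  exact qΦ_comp_j D j hj v x h h'

variable (A A' B') in
/-- `V̄ ×_Z W ×_Z W`. -/
noncomputable abbrev qP3 : Scheme.{u} := pullback (yProj A A' B' ≫ pMap A A') (pMap A A')

variable (A A' B') in
/-- `V̄ ×_Z W ×_Z W ⟶ V̄ ×_Z W`. -/
noncomputable abbrev q12 : qP3 A A' B' ⟶ Spec (CommRingCat.of (A' ⊗[A] B')) := pullback.fst _ _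

variable (A A' B') in
/-- The last projection `V̄ ×_Z W ×_Z W ⟶ W`. -/
noncomputable abbrev qx2 : qP3 A A' B' ⟶ Spec (CommRingCat.of A') := pullback.snd _ _

variable (A A' B') in
/-- The first projection `V̄ ×_Z W ×_Z W ⟶ V̄`. -/
noncomputable abbrev qq3 : qP3 A A' B' ⟶ Spec (CommRingCat.of B') :=
  q12 A A' B' ≫ wProj A A' B'

omit [Module.FaithfullyFlat A A'] in
theorem qq3_cond0 : qq3 A A' B' ≫ aMap A' B' ≫ pMap A A' =
    (q12 A A' B' ≫ yProj A A' B') ≫ pMap A A' := by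
  rw [Category.assoc, Category.assoc, wProj_cond]

omit [Module.FaithfullyFlat A A'] in
theorem qq3_cond2 : qq3 A A' B' ≫ aMap A' B' ≫ pMap A A' = qx2 A A' B' ≫ pMap A A' := by
  rw [qq3_cond0, Category.assoc]
  exact pullback.condition

theorem qΦ_comp_univ
    (c1 : qΦ D j hj (qq3 A A' B') (q12 A A' B' ≫ yProj A A' B') qq3_cond0 ≫ aMap A' B' ≫
      pMap A A' = qx2 A A' B' ≫ pMap A A') :
    qΦ D j hj (qΦ D j hj (qq3 A A' B') (q12 A A' B' ≫ yProj A A' B') qq3_cond0) (qx2 A A' B') c1 =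
      qΦ D j hj (qq3 A A' B') (qx2 A A' B') qq3_cond2 := by
  let k₃ := pullback.fst (qq3 A A' B') j
  let l₃ := pullback.snd (qq3 A A' B') j
  have hiso : IsIso k₃.appTop := isIso_appTop_pullback_fst j (qq3 A A' B')
  apply hom_ext_of_isIso_appTop k₃
  have hk : k₃ ≫ qq3 A A' B' = l₃ ≫ j := pullback.condition
  have e1 : l₃ ≫ a ≫ pMap A A' = (k₃ ≫ q12 A A' B' ≫ yProj A A' B') ≫ pMap A A' := by
    have h0 : l₃ ≫ a = (k₃ ≫ qq3 A A' B') ≫ aMap A' B' := by rw [hk, Category.assoc, hj]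
    rw [← Category.assoc, h0, Category.assoc, Category.assoc, qq3_cond0]
    simp only [Category.assoc]
  have e2 : l₃ ≫ a ≫ pMap A A' = (k₃ ≫ qx2 A A' B') ≫ pMap A A' := by
    have h0 : l₃ ≫ a = (k₃ ≫ qq3 A A' B') ≫ aMap A' B' := by rw [hk, Category.assoc, hj]
    rw [← Category.assoc, h0, Category.assoc, Category.assoc, qq3_cond2]
    simp only [Category.assoc]
  have hin : k₃ ≫ qΦ D j hj (qq3 A A' B') (q12 A A' B' ≫ yProj A A' B') qq3_cond0 =
      D.Φ l₃ (k₃ ≫ q12 A A' B' ≫ yProj A A' B') e1 ≫ j := by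
    rw [qΦ_natural D j hj k₃ _ _ qq3_cond0 (by rw [Category.assoc, qq3_cond0]; simp)]
    exact qΦ_eq_of_eq_comp_j D j hj _ l₃ hk _ _ e1
  have e3 : D.Φ l₃ (k₃ ≫ q12 A A' B' ≫ yProj A A' B') e1 ≫ a ≫ pMap A A' =
      (k₃ ≫ qx2 A A' B') ≫ pMap A A' := by
    rw [← Category.assoc, D.Φ_over, Category.assoc, Category.assoc, Category.assoc]
    congr 1
    exact pullback.condition
  rw [qΦ_natural D j hj k₃ _ _ c1 (by rw [Category.assoc, c1, Category.assoc]),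
    qΦ_natural D j hj k₃ _ _ qq3_cond2 (by rw [Category.assoc, qq3_cond2, Category.assoc]),
    qΦ_eq_of_eq_comp_j D j hj _ (D.Φ l₃ (k₃ ≫ q12 A A' B' ≫ yProj A A' B') e1) hin _ _ e3,
    qΦ_eq_of_eq_comp_j D j hj _ l₃ hk _ _ e2, D.Φ_comp l₃ _ _ e1 e3 e2]

theorem qΦ_comp {T : Scheme.{u}} (v : T ⟶ Spec (CommRingCat.of B'))
    (x₁ x₂ : T ⟶ Spec (CommRingCat.of A'))
    (h₁ : v ≫ aMap A' B' ≫ pMap A A' = x₁ ≫ pMap A A')
    (h₂ : qΦ D j hj v x₁ h₁ ≫ aMap A' B' ≫ pMap A A' = x₂ ≫ pMap A A')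
    (h₃ : v ≫ aMap A' B' ≫ pMap A A' = x₂ ≫ pMap A A') :
    qΦ D j hj (qΦ D j hj v x₁ h₁) x₂ h₂ = qΦ D j hj v x₂ h₃ := by
  let u : T ⟶ qP3 A A' B' := pullback.lift (qlift x₁ v h₁.symm) x₂ (by
    rw [qlift_fst_assoc]
    exact h₁.symm.trans h₃)
  have hu1 : u ≫ q12 A A' B' = qlift x₁ v h₁.symm := pullback.lift_fst _ _ _
  have hu2 : u ≫ qx2 A A' B' = x₂ := pullback.lift_snd _ _ _
  have hu3 : u ≫ qq3 A A' B' = v := by
    rw [← Category.assoc, hu1, qlift_snd]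
  have hu4 : u ≫ q12 A A' B' ≫ yProj A A' B' = x₁ := by
    rw [← Category.assoc, hu1, qlift_fst]
  have hin : u ≫ qΦ D j hj (qq3 A A' B') (q12 A A' B' ≫ yProj A A' B') qq3_cond0 =
      qΦ D j hj v x₁ h₁ := by
    rw [qΦ_natural D j hj u _ _ qq3_cond0 (by rw [hu3, hu4]; exact h₁)]
    exact qΦ_congr D j hj hu3 hu4 _ _
  have c1 : qΦ D j hj (qq3 A A' B') (q12 A A' B' ≫ yProj A A' B') qq3_cond0 ≫ aMap A' B' ≫
      pMap A A' = qx2 A A' B' ≫ pMap A A' := by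
    rw [← Category.assoc, qΦ_over, Category.assoc]
    exact pullback.condition
  have key := congrArg (fun f => u ≫ f) (qΦ_comp_univ D j hj c1)
  beta_reduce at key
  rw [qΦ_natural D j hj u _ _ c1 (by rw [hin, hu2]; exact h₂),
    qΦ_natural D j hj u _ _ qq3_cond2 (by rw [hu3, hu2]; exact h₃)] at key
  rw [qΦ_congr D j hj hin.symm hu2.symm h₂ (by rw [hin, hu2]; exact h₂), key]
  exact qΦ_congr D j hj hu3 hu2 _ _

/-- The affine descent datum on `V̄ = Spec B'` extending the descent datum on `V`. -/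
noncomputable def qDD : AffDD A A' B' where
  Φ v x h := qΦ D j hj v x h
  Φ_over v x h := qΦ_over D j hj v x h
  Φ_natural g v x h h' := qΦ_natural D j hj g v x h h'
  Φ_self v h := qΦ_self D j hj v h
  Φ_comp v x₁ x₂ h₁ h₂ h₃ := qΦ_comp D j hj v x₁ x₂ h₁ h₂ h₃

theorem qDD_Φ {T : Scheme.{u}} (v : T ⟶ Spec (CommRingCat.of B'))
    (x : T ⟶ Spec (CommRingCat.of A')) (h : v ≫ aMap A' B' ≫ pMap A A' = x ≫ pMap A A') :
    (qDD D j hj).Φ v x h = qΦ D j hj v x h := rfl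

end Core

end Groth.Agent.H53.Desc
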