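import Groth.Agent.H53.Desc.AffDD
import Groth.Agent.H53.Charts

/-! The affine descent datum attached to a sheaf over `h_Z` whose base change to a faithfully flat
affine cover `W ⟶ Z` is an affine scheme. -/

set_option autoImplicit false
universe u

open TensorProduct CategoryTheory CategoryTheory.Limits AlgebraicGeometry
open AlgSp

namespace Groth.Agent.H53.Desc

variable {S : Scheme.{u}} (A A' B' : Type u) [CommRing A] [CommRing A'] [CommRing B']
  [Algebra A A'] [Algebra A' B'] (sZ : Spec (CommRingCat.of A) ⟶ S)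

/-- `Z = Spec A` over `S`. -/
noncomputable abbrev ovZ : Over S := Over.mk sZ

/-- `W = Spec A'` over `S`. -/
noncomputable abbrev ovW : Over S := Over.mk (pMap A A' ≫ sZ)

/-- `V = Spec B'` over `S`. -/
noncomputable abbrev ovV : Over S := Over.mk (aMap A' B' ≫ pMap A A' ≫ sZ)

/-- `W ⟶ Z`. -/
noncomputable abbrev ovc : ovW A A' sZ ⟶ ovZ A sZ := Over.homMk (pMap A A') rfl

/-- `V ⟶ W`. -/
noncomputable abbrev ova : ovV A A' B' sZ ⟶ ovW A A' sZ := Over.homMk (aMap A' B') rfl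

variable {A A' B' sZ} {F : Sp S} (π : F ⟶ (yon S).obj (ovZ A sZ))
  (t : (yon S).obj (ovV A A' B' sZ) ⟶ F)

/-- A point of `V` as a morphism over `S`. -/
noncomputable abbrev ptV {T : Scheme.{u}} (v : T ⟶ Spec (CommRingCat.of B')) (s : T ⟶ S)
    (hv : v ≫ (ovV A A' B' sZ).hom = s) : Over.mk s ⟶ ovV A A' B' sZ :=
  Over.homMk v hv

/-- `v₁` is the transport of the point `v` of `V` to a point over `x`. -/
def IsTransport {T : Scheme.{u}} (v : T ⟶ Spec (CommRingCat.of B'))
    (x : T ⟶ Spec (CommRingCat.of A')) (v₁ : T ⟶ Spec (CommRingCat.of B')) : Prop :=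
  v₁ ≫ aMap A' B' = x ∧ ∃ (s : T ⟶ S) (hv : v ≫ (ovV A A' B' sZ).hom = s)
    (hv₁ : v₁ ≫ (ovV A A' B' sZ).hom = s),
    (yon S).map (ptV v₁ s hv₁) ≫ t = (yon S).map (ptV v s hv) ≫ t

variable {t}

theorem IsTransport.of_over {Q : Over S} (v v₁ : Q ⟶ ovV A A' B' sZ)
    (h : (yon S).map v₁ ≫ t = (yon S).map v ≫ t) :
    IsTransport t v.left (v₁ ≫ ova A A' B' sZ).left v₁.left :=
  ⟨rfl, Q.hom, Over.w v, Over.w v₁, h⟩

theorem IsTransport.refl {T : Scheme.{u}} (v : T ⟶ Spec (CommRingCat.of B')) :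
    IsTransport t v (v ≫ aMap A' B') v :=
  ⟨rfl, _, rfl, rfl, rfl⟩

theorem IsTransport.trans {T : Scheme.{u}} {v v₁ v₂ : T ⟶ Spec (CommRingCat.of B')}
    {x₁ x₂ : T ⟶ Spec (CommRingCat.of A')} (h₁ : IsTransport t v x₁ v₁)
    (h₂ : IsTransport t v₁ x₂ v₂) : IsTransport t v x₂ v₂ := by
  obtain ⟨-, s, hv, hv₁, e⟩ := h₁
  obtain ⟨hx₂, s', hv₁', hv₂, e'⟩ := h₂
  obtain rfl : s = s' := hv₁.symm.trans hv₁'
  exact ⟨hx₂, s, hv, hv₂, e'.trans e⟩

theorem IsTransport.precomp {T T' : Scheme.{u}} (g : T' ⟶ T) {v v₁ : T ⟶ Spec (CommRingCat.of B')}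
    {x : T ⟶ Spec (CommRingCat.of A')} (h : IsTransport t v x v₁) :
    IsTransport t (g ≫ v) (g ≫ x) (g ≫ v₁) := by
  obtain ⟨hx, s, hv, hv₁, e⟩ := h
  have hgv : (g ≫ v) ≫ (ovV A A' B' sZ).hom = g ≫ s := by rw [Category.assoc, hv]
  have hgv₁ : (g ≫ v₁) ≫ (ovV A A' B' sZ).hom = g ≫ s := by rw [Category.assoc, hv₁]
  refine ⟨by rw [Category.assoc, hx], g ≫ s, hgv, hgv₁, ?_⟩
  let g' : Over.mk (g ≫ s) ⟶ Over.mk s := Over.homMk g rfl
  have e1 : ptV (g ≫ v₁) (g ≫ s) hgv₁ = g' ≫ ptV v₁ s hv₁ := by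
    ext; rfl
  have e2 : ptV (g ≫ v) (g ≫ s) hgv = g' ≫ ptV v s hv := by
    ext; rfl
  rw [e1, e2, Functor.map_comp, Functor.map_comp, Category.assoc, Category.assoc, e]


variable {π}

theorem IsTransport.unique (sq : IsPullback t ((yon S).map (ova A A' B' sZ)) π
    ((yon S).map (ovc A A' sZ))) {T : Scheme.{u}} {v v₁ v₁' : T ⟶ Spec (CommRingCat.of B')}
    {x : T ⟶ Spec (CommRingCat.of A')} (h : IsTransport t v x v₁) (h' : IsTransport t v x v₁') :
    v₁ = v₁' := by
  obtain ⟨hx, s, hv, hv₁, e⟩ := h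
  obtain ⟨hx', s', hv', hv₁', e'⟩ := h'
  obtain rfl : s = s' := hv.symm.trans hv'
  have h1 : (yon S).map (ptV v₁ s hv₁) = (yon S).map (ptV v₁' s hv₁') := by
    apply sq.hom_ext
    · rw [e, e']
    · rw [← Functor.map_comp, ← Functor.map_comp]
      congr 1
      ext
      change v₁ ≫ aMap A' B' = v₁' ≫ aMap A' B'
      rw [hx, hx']
  have h2 := (yon S).map_injective h1
  exact congrArg (fun k => k.left) h2

theorem IsTransport.exists (sq : IsPullback t ((yon S).map (ova A A' B' sZ)) π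
    ((yon S).map (ovc A A' sZ))) {T : Scheme.{u}} (v : T ⟶ Spec (CommRingCat.of B'))
    (x : T ⟶ Spec (CommRingCat.of A')) (h : v ≫ aMap A' B' ≫ pMap A A' = x ≫ pMap A A') :
    ∃ v₁, IsTransport t v x v₁ := by
  let s : T ⟶ S := v ≫ (ovV A A' B' sZ).hom
  have hxs : x ≫ (ovW A A' sZ).hom = s := by
    change x ≫ pMap A A' ≫ sZ = v ≫ aMap A' B' ≫ pMap A A' ≫ sZ
    rw [← Category.assoc, ← h, Category.assoc, Category.assoc]
  let x' : Over.mk s ⟶ ovW A A' sZ := Over.homMk x hxs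
  have hcompat : ((yon S).map (ptV v s rfl) ≫ t) ≫ π = (yon S).map x' ≫
      (yon S).map (ovc A A' sZ) := by
    rw [Category.assoc, sq.w, ← Functor.map_comp, ← Functor.map_comp, ← Functor.map_comp]
    congr 1
    ext
    change v ≫ aMap A' B' ≫ pMap A A' = x ≫ pMap A A'
    exact h
  let ℓ := sq.lift _ _ hcompat
  let v₁ : Over.mk s ⟶ ovV A A' B' sZ := (yon S).preimage ℓ
  have hv₁ : (yon S).map v₁ = ℓ := (yon S).map_preimage ℓ
  refine ⟨v₁.left, ?_, s, rfl, Over.w v₁, ?_⟩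
  · have h1 : (yon S).map (v₁ ≫ ova A A' B' sZ) = (yon S).map x' := by
      rw [Functor.map_comp, hv₁]
      exact sq.lift_snd _ _ _
    have h2 := (yon S).map_injective h1
    exact congrArg (fun k => k.left) h2
  · have : ptV v₁.left s (Over.w v₁) = v₁ := by ext; rfl
    rw [this, hv₁]
    exact sq.lift_fst _ _ _


/-- The affine descent datum attached to the sheaf data. -/
noncomputable def sheafDD (sq : IsPullback t ((yon S).map (ova A A' B' sZ)) π
    ((yon S).map (ovc A A' sZ))) : AffDD A A' B' where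
  Φ v x h := Classical.choose (IsTransport.exists sq v x h)
  Φ_over v x h := (Classical.choose_spec (IsTransport.exists sq v x h)).1
  Φ_natural g v x h h' :=
    IsTransport.unique sq ((Classical.choose_spec (IsTransport.exists sq v x h)).precomp g)
      (Classical.choose_spec (IsTransport.exists sq (g ≫ v) (g ≫ x) h'))
  Φ_self v h :=
    IsTransport.unique sq (Classical.choose_spec (IsTransport.exists sq v _ h))
      (IsTransport.refl v)
  Φ_comp v x₁ x₂ h₁ h₂ h₃ :=
    IsTransport.unique sq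
      ((Classical.choose_spec (IsTransport.exists sq v x₁ h₁)).trans
        (Classical.choose_spec (IsTransport.exists sq _ x₂ h₂)))
      (Classical.choose_spec (IsTransport.exists sq v x₂ h₃))

theorem sheafDD_spec (sq : IsPullback t ((yon S).map (ova A A' B' sZ)) π
    ((yon S).map (ovc A A' sZ))) {T : Scheme.{u}} (v : T ⟶ Spec (CommRingCat.of B'))
    (x : T ⟶ Spec (CommRingCat.of A')) (h : v ≫ aMap A' B' ≫ pMap A A' = x ≫ pMap A A') :
    IsTransport t v x ((sheafDD sq).Φ v x h) :=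
  Classical.choose_spec (IsTransport.exists sq v x h)

/-- Points of `V` with the same image in `F` have the same image in the descended scheme. -/
theorem eMap_eq_of_eq [Algebra A B'] [IsScalarTower A A' B']
    (sq : IsPullback t ((yon S).map (ova A A' B' sZ)) π ((yon S).map (ovc A A' sZ)))
    {Q : Over S} (v v₁ : Q ⟶ ovV A A' B' sZ) (h : (yon S).map v₁ ≫ t = (yon S).map v ≫ t) :
    v₁.left ≫ (sheafDD sq).eMap = v.left ≫ (sheafDD sq).eMap := by
  have h1 : (yon S).map (v₁ ≫ ova A A' B' sZ ≫ ovc A A' sZ) =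
      (yon S).map (v ≫ ova A A' B' sZ ≫ ovc A A' sZ) := by
    rw [Functor.map_comp, Functor.map_comp, Functor.map_comp, Functor.map_comp, ← sq.w,
      ← Category.assoc, h, Category.assoc]
  have h2 := congrArg (fun k => k.left) ((yon S).map_injective h1)
  have hcond : v.left ≫ aMap A' B' ≫ pMap A A' = (v₁ ≫ ova A A' B' sZ).left ≫ pMap A A' := by
    change v.left ≫ aMap A' B' ≫ pMap A A' = (v₁.left ≫ aMap A' B') ≫ pMap A A'
    rw [Category.assoc]
    exact h2.symm
  have e : (sheafDD sq).Φ v.left (v₁ ≫ ova A A' B' sZ).left hcond = v₁.left :=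
    IsTransport.unique sq (sheafDD_spec sq _ _ hcond) (IsTransport.of_over v v₁ h)
  rw [← e]
  exact (sheafDD sq).Φ_eMap _ _ hcond

end Groth.Agent.H53.Desc
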