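import Groth.Agent.H53.Desc.SheafDD
import Groth.Agent.H53.Glue
import Mathlib.AlgebraicGeometry.Sites.Fpqc

/-! Effective descent of affine schemes along a faithfully flat affine cover: the comparison
map from the sheaf to the descended affine scheme. -/

set_option autoImplicit false
universe u

open TensorProduct CategoryTheory CategoryTheory.Limits AlgebraicGeometry
open AlgSp

namespace Groth.Agent.H53.Desc

variable {S : Scheme.{u}} {A A' B' : Type u} [CommRing A] [CommRing A'] [CommRing B']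
  [Algebra A A'] [Algebra A' B'] [Algebra A B'] [IsScalarTower A A' B']
  [Module.FaithfullyFlat A A'] {sZ : Spec (CommRingCat.of A) ⟶ S}
  {F : Sp S} {π : F ⟶ (yon S).obj (ovZ A sZ)} {t : (yon S).obj (ovV A A' B' sZ) ⟶ F}

theorem flat_surjective_pMap : Flat (pMap A A') ∧ Surjective (pMap A A') := by
  rw [flat_and_surjective_SpecMap_iff]
  exact RingHom.faithfullyFlat_algebraMap_iff.2 inferInstance

instance : Flat (pMap A A') := flat_surjective_pMap.1

instance : Surjective (pMap A A') := flat_surjective_pMap.2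

variable (sq : IsPullback t ((yon S).map (ova A A' B' sZ)) π ((yon S).map (ovc A A' sZ)))

/-- The descended affine scheme over `S`. -/
noncomputable abbrev ovU : Over S := Over.mk ((sheafDD sq).bMap ≫ sZ)

/-- `U ⟶ Z`. -/
noncomputable abbrev ovi : ovU sq ⟶ ovZ A sZ := Over.homMk (sheafDD sq).bMap rfl

/-- `V ⟶ U`. -/
noncomputable abbrev ovε : ovV A A' B' sZ ⟶ ovU sq :=
  Over.homMk (sheafDD sq).eMap (by
    change (sheafDD sq).eMap ≫ (sheafDD sq).bMap ≫ sZ = aMap A' B' ≫ pMap A A' ≫ sZ
    rw [← Category.assoc, ← (sheafDD sq).isPullback_eMap.w, Category.assoc])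

theorem ovε_ovi : ovε sq ≫ ovi sq = ova A A' B' sZ ≫ ovc A A' sZ := by
  ext
  exact (sheafDD sq).isPullback_eMap.w.symm

theorem isPullback_ovε : IsPullback (ova A A' B' sZ) (ovε sq) (ovc A A' sZ) (ovi sq) := by
  refine IsPullback.of_map (Over.forget S) ?_ (sheafDD sq).isPullback_eMap
  rw [ovε_ovi]


/-- Key lemma: a section of `F` over `T` determines a point of the descended scheme,
characterised by its values on local lifts of the section to `V`. -/
theorem existsUnique_desc_point {T : Over S} (ξ : (yon S).obj T ⟶ F) :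
    ∃! d : T ⟶ ovU sq, ∀ (T₁ : Over S) (g : T₁ ⟶ T) (v : T₁ ⟶ ovV A A' B' sZ),
      (yon S).map v ≫ t = (yon S).map g ≫ ξ → g ≫ d = v ≫ ovε sq := by
  let z : T ⟶ ovZ A sZ := (yon S).preimage (ξ ≫ π)
  have hz : (yon S).map z = ξ ≫ π := (yon S).map_preimage _
  let g' : pullback z.left (pMap A A') ⟶ T.left := pullback.fst _ _
  let x' : pullback z.left (pMap A A') ⟶ Spec (CommRingCat.of A') := pullback.snd _ _
  have hcond : g' ≫ z.left = x' ≫ pMap A A' := pullback.condition
  let T' : Over S := Over.mk (g' ≫ T.hom)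
  let gT : T' ⟶ T := Over.homMk g' rfl
  have hx'S : x' ≫ (ovW A A' sZ).hom = T'.hom := by
    change x' ≫ pMap A A' ≫ sZ = g' ≫ T.hom
    rw [← Category.assoc, ← hcond, Category.assoc]
    congr 1
    exact Over.w z
  let xT : T' ⟶ ovW A A' sZ := Over.homMk x' hx'S
  have hgz : gT ≫ z = xT ≫ ovc A A' sZ := by
    ext
    exact hcond
  have hcompat : ((yon S).map gT ≫ ξ) ≫ π =
      (yon S).map xT ≫ (yon S).map (ovc A A' sZ) := by
    rw [Category.assoc, ← hz, ← Functor.map_comp, ← Functor.map_comp, hgz]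
  let vT : T' ⟶ ovV A A' B' sZ := (yon S).preimage (sq.lift _ _ hcompat)
  have hvT : (yon S).map vT = sq.lift _ _ hcompat := (yon S).map_preimage _
  have hvT1 : (yon S).map vT ≫ t = (yon S).map gT ≫ ξ := by rw [hvT, sq.lift_fst]
  have hvT2 : vT ≫ ova A A' B' sZ = xT :=
    (yon S).map_injective (by rw [Functor.map_comp, hvT, sq.lift_snd])
  have hFl : Flat g' := by
    change Flat (pullback.fst z.left (pMap A A'))
    infer_instance
  have hSu : Surjective g' := by
    change Surjective (pullback.fst z.left (pMap A A'))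
    infer_instance
  have hQC : QuasiCompact g' := by
    change QuasiCompact (pullback.fst z.left (pMap A A'))
    have : IsAffineHom (pMap A A') := isAffineHom_of_isAffine _
    infer_instance
  have hEE : EffectiveEpi g' := inferInstance
  have hdesc : ∀ {Q : Scheme.{u}} (g₁ g₂ : Q ⟶ pullback z.left (pMap A A')),
      g₁ ≫ g' = g₂ ≫ g' → g₁ ≫ (vT ≫ ovε sq).left = g₂ ≫ (vT ≫ ovε sq).left := by
    intro Q g₁ g₂ h12
    let Q' : Over S := Over.mk (g₁ ≫ T'.hom)
    let k₁ : Q' ⟶ T' := Over.homMk g₁ rfl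
    let k₂ : Q' ⟶ T' := Over.homMk g₂ (by
      change g₂ ≫ g' ≫ T.hom = g₁ ≫ g' ≫ T.hom
      rw [← Category.assoc, ← h12, Category.assoc])
    have hk : k₁ ≫ gT = k₂ ≫ gT := by
      ext
      exact h12
    have e : (yon S).map (k₂ ≫ vT) ≫ t = (yon S).map (k₁ ≫ vT) ≫ t := by
      rw [Functor.map_comp, Functor.map_comp, Category.assoc, Category.assoc, hvT1,
        ← Category.assoc, ← Category.assoc, ← Functor.map_comp, ← Functor.map_comp, hk]
    have h3 := eMap_eq_of_eq sq (k₁ ≫ vT) (k₂ ≫ vT) e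
    change (g₂ ≫ vT.left) ≫ (sheafDD sq).eMap = (g₁ ≫ vT.left) ≫ (sheafDD sq).eMap at h3
    change g₁ ≫ vT.left ≫ (sheafDD sq).eMap = g₂ ≫ vT.left ≫ (sheafDD sq).eMap
    rw [← Category.assoc, ← Category.assoc, h3]
  let d₀ : T.left ⟶ (ovU sq).left := EffectiveEpi.desc g' (vT ≫ ovε sq).left hdesc
  have hd₀ : g' ≫ d₀ = (vT ≫ ovε sq).left := EffectiveEpi.fac g' _ hdesc
  have hd₀S : d₀ ≫ (ovU sq).hom = T.hom := by
    rw [← cancel_epi g', ← Category.assoc, hd₀]
    exact Over.w (vT ≫ ovε sq)
  let d : T ⟶ ovU sq := Over.homMk d₀ hd₀S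
  have hgd : gT ≫ d = vT ≫ ovε sq := by
    ext
    exact hd₀
  refine ⟨d, ?_, ?_⟩
  · intro T₁ g v hv
    have h1 : (yon S).map (g ≫ z) = (yon S).map (v ≫ ova A A' B' sZ ≫ ovc A A' sZ) := by
      rw [Functor.map_comp, hz, ← Category.assoc, ← hv, Category.assoc, sq.w,
        Functor.map_comp, Functor.map_comp]
    have h2 : g ≫ z = v ≫ ova A A' B' sZ ≫ ovc A A' sZ := (yon S).map_injective h1
    have h3 : g.left ≫ z.left = (v ≫ ova A A' B' sZ).left ≫ pMap A A' :=
      congrArg (fun k => k.left) h2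
    let k₀ : T₁.left ⟶ pullback z.left (pMap A A') :=
      pullback.lift g.left (v ≫ ova A A' B' sZ).left h3
    have hk₀1 : k₀ ≫ g' = g.left := pullback.lift_fst _ _ _
    have hk₀2 : k₀ ≫ x' = (v ≫ ova A A' B' sZ).left := pullback.lift_snd _ _ _
    let k : T₁ ⟶ T' := Over.homMk k₀ (by
      change k₀ ≫ g' ≫ T.hom = T₁.hom
      rw [← Category.assoc, hk₀1]
      exact Over.w g)
    have hkg : k ≫ gT = g := by
      ext
      exact hk₀1
    have hkx : k ≫ xT = v ≫ ova A A' B' sZ := by
      ext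
      exact hk₀2
    have hkv : k ≫ vT = v := by
      apply (yon S).map_injective
      apply sq.hom_ext
      · rw [Functor.map_comp, Category.assoc, hvT1, ← Category.assoc, ← Functor.map_comp, hkg,
          hv]
      · rw [← Functor.map_comp, ← Functor.map_comp, Category.assoc, hvT2, hkx]
    rw [← hkg, Category.assoc, hgd, ← Category.assoc, hkv]
  · intro d' hd'
    have h1 := hd' T' gT vT hvT1
    have h2 : gT ≫ d' = gT ≫ d := h1.trans hgd.symm
    have h3 : g' ≫ d'.left = g' ≫ d.left := congrArg (fun k => k.left) h2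
    ext
    exact (cancel_epi g').1 h3


/-- The point of the descended scheme determined by a section of `F`. -/
noncomputable def descPoint {T : Over S} (ξ : (yon S).obj T ⟶ F) : T ⟶ ovU sq :=
  Classical.choose (existsUnique_desc_point sq ξ).exists

theorem descPoint_spec {T : Over S} (ξ : (yon S).obj T ⟶ F) {T₁ : Over S} (g : T₁ ⟶ T)
    (v : T₁ ⟶ ovV A A' B' sZ) (hv : (yon S).map v ≫ t = (yon S).map g ≫ ξ) :
    g ≫ descPoint sq ξ = v ≫ ovε sq :=
  Classical.choose_spec (existsUnique_desc_point sq ξ).exists T₁ g v hv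

theorem descPoint_unique {T : Over S} (ξ : (yon S).obj T ⟶ F) (d' : T ⟶ ovU sq)
    (hd' : ∀ (T₁ : Over S) (g : T₁ ⟶ T) (v : T₁ ⟶ ovV A A' B' sZ),
      (yon S).map v ≫ t = (yon S).map g ≫ ξ → g ≫ d' = v ≫ ovε sq) :
    d' = descPoint sq ξ :=
  (existsUnique_desc_point sq ξ).unique hd' (fun T₁ g v hv => descPoint_spec sq ξ g v hv)

theorem descPoint_comp {T T₂ : Over S} (f : T₂ ⟶ T) (ξ : (yon S).obj T ⟶ F) :
    descPoint sq ((yon S).map f ≫ ξ) = f ≫ descPoint sq ξ := by
  symm
  apply descPoint_unique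
  intro T₁ g v hv
  rw [← Category.assoc]
  apply descPoint_spec
  rw [hv, Functor.map_comp, Category.assoc]

theorem descPoint_map_t {T : Over S} (v : T ⟶ ovV A A' B' sZ) :
    descPoint sq ((yon S).map v ≫ t) = v ≫ ovε sq := by
  have := descPoint_spec sq ((yon S).map v ≫ t) (𝟙 T) v (by simp)
  simpa using this

theorem exists_eta : ∃ η : F ⟶ (yon S).obj (ovU sq),
    ∀ (T : Over S) (ξ : (yon S).obj T ⟶ F), ξ ≫ η = (yon S).map (descPoint sq ξ) :=
  Groth.Agent.H53.sp_hom_mk (fun T ξ => (yon S).map (descPoint sq ξ)) (fun T₂ T f ξ => by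
    rw [descPoint_comp, Functor.map_comp])

/-- The comparison map from the sheaf to the descended affine scheme. -/
noncomputable def eta : F ⟶ (yon S).obj (ovU sq) := Classical.choose (exists_eta sq)

theorem comp_eta {T : Over S} (ξ : (yon S).obj T ⟶ F) :
    ξ ≫ eta sq = (yon S).map (descPoint sq ξ) :=
  Classical.choose_spec (exists_eta sq) T ξ


theorem t_eta : t ≫ eta sq = (yon S).map (ovε sq) := by
  have h := comp_eta sq ((yon S).map (𝟙 (ovV A A' B' sZ)) ≫ t)
  rw [descPoint_map_t, Category.id_comp] at h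
  simpa using h

theorem eta_ovi : eta sq ≫ (yon S).map (ovi sq) = π := by
  refine Groth.Agent.H53.sp_hom_ext fun T ξ => ?_
  rw [← Category.assoc, comp_eta, ← Functor.map_comp]
  -- reduce to the cover `T'`
  let z : T ⟶ ovZ A sZ := (yon S).preimage (ξ ≫ π)
  have hz : (yon S).map z = ξ ≫ π := (yon S).map_preimage _
  rw [← hz]
  congr 1
  let g' : pullback z.left (pMap A A') ⟶ T.left := pullback.fst _ _
  let x' : pullback z.left (pMap A A') ⟶ Spec (CommRingCat.of A') := pullback.snd _ _
  have hcond : g' ≫ z.left = x' ≫ pMap A A' := pullback.condition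
  let T' : Over S := Over.mk (g' ≫ T.hom)
  let gT : T' ⟶ T := Over.homMk g' rfl
  have hx'S : x' ≫ (ovW A A' sZ).hom = T'.hom := by
    change x' ≫ pMap A A' ≫ sZ = g' ≫ T.hom
    rw [← Category.assoc, ← hcond, Category.assoc]
    congr 1
    exact Over.w z
  let xT : T' ⟶ ovW A A' sZ := Over.homMk x' hx'S
  have hgz : gT ≫ z = xT ≫ ovc A A' sZ := by
    ext
    exact hcond
  have hcompat : ((yon S).map gT ≫ ξ) ≫ π =
      (yon S).map xT ≫ (yon S).map (ovc A A' sZ) := by
    rw [Category.assoc, ← hz, ← Functor.map_comp, ← Functor.map_comp, hgz]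
  let vT : T' ⟶ ovV A A' B' sZ := (yon S).preimage (sq.lift _ _ hcompat)
  have hvT : (yon S).map vT = sq.lift _ _ hcompat := (yon S).map_preimage _
  have hvT1 : (yon S).map vT ≫ t = (yon S).map gT ≫ ξ := by rw [hvT, sq.lift_fst]
  have hvT2 : vT ≫ ova A A' B' sZ = xT :=
    (yon S).map_injective (by rw [Functor.map_comp, hvT, sq.lift_snd])
  have hSu : Surjective g' := by
    change Surjective (pullback.fst z.left (pMap A A'))
    infer_instance
  have hFl : Flat g' := by
    change Flat (pullback.fst z.left (pMap A A'))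
    infer_instance
  have hQC : QuasiCompact g' := by
    change QuasiCompact (pullback.fst z.left (pMap A A'))
    have : IsAffineHom (pMap A A') := isAffineHom_of_isAffine _
    infer_instance
  have hEE : EffectiveEpi g' := inferInstance
  have h1 : gT ≫ descPoint sq ξ ≫ ovi sq = gT ≫ z := by
    rw [← Category.assoc, descPoint_spec sq ξ gT vT hvT1, Category.assoc, ovε_ovi,
      ← Category.assoc, hvT2, hgz]
  have h2 : g' ≫ (descPoint sq ξ ≫ ovi sq).left = g' ≫ z.left := congrArg (fun k => k.left) h1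
  ext
  exact (cancel_epi g').1 h2

theorem isPullback_eta :
    IsPullback (𝟙 ((yon S).obj (ovV A A' B' sZ))) t ((yon S).map (ovε sq)) (eta sq) := by
  have R : IsPullback ((yon S).map (ova A A' B' sZ)) ((yon S).map (ovε sq))
      ((yon S).map (ovc A A' sZ)) ((yon S).map (ovi sq)) := (isPullback_ovε sq).map (yon S)
  refine IsPullback.of_right ?_ ?_ R
  · rw [Category.id_comp, eta_ovi]
    exact sq.flip
  · rw [Category.id_comp, t_eta]

end Groth.Agent.H53.Desc
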