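import Groth.Agent.H53.Desc.QAffOpen

/-! The descent datum (functor of points form) attached to a sheaf over `h_Z` whose base change to
a faithfully flat affine cover `W ⟶ Z` is a scheme `V`. -/

set_option autoImplicit false
universe u

open TensorProduct CategoryTheory CategoryTheory.Limits AlgebraicGeometry
open AlgSp

namespace Groth.Agent.H53.Desc

variable {S : Scheme.{u}} {A A' : Type u} [CommRing A] [CommRing A']
  [Algebra A A'] {sZ : Spec (CommRingCat.of A) ⟶ S} {V : Over S} (a : V ⟶ ovW A A' sZ)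
  {F : Sp S} (π : F ⟶ (yon S).obj (ovZ A sZ)) (t : (yon S).obj V ⟶ F)

/-- `v₁` is the transport of the point `v` of `V` to a point over `x`. -/
def IsTransportG {T : Scheme.{u}} (v : T ⟶ V.left)
    (x : T ⟶ Spec (CommRingCat.of A')) (v₁ : T ⟶ V.left) : Prop :=
  v₁ ≫ a.left = x ∧ ∃ (s : T ⟶ S) (hv : v ≫ V.hom = s) (hv₁ : v₁ ≫ V.hom = s),
    (yon S).map (Over.homMk v₁ hv₁ : Over.mk s ⟶ V) ≫ t =
      (yon S).map (Over.homMk v hv : Over.mk s ⟶ V) ≫ t

variable {a t}

theorem IsTransportG.of_over {Q : Over S} (v v₁ : Q ⟶ V)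
    (h : (yon S).map v₁ ≫ t = (yon S).map v ≫ t) :
    IsTransportG a t v.left (v₁ ≫ a).left v₁.left :=
  ⟨rfl, Q.hom, Over.w v, Over.w v₁, h⟩

theorem IsTransportG.refl {T : Scheme.{u}} (v : T ⟶ V.left) :
    IsTransportG a t v (v ≫ a.left) v :=
  ⟨rfl, _, rfl, rfl, rfl⟩

theorem IsTransportG.trans {T : Scheme.{u}} {v v₁ v₂ : T ⟶ V.left}
    {x₁ x₂ : T ⟶ Spec (CommRingCat.of A')} (h₁ : IsTransportG a t v x₁ v₁)
    (h₂ : IsTransportG a t v₁ x₂ v₂) : IsTransportG a t v x₂ v₂ := by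
  obtain ⟨-, s, hv, hv₁, e⟩ := h₁
  obtain ⟨hx₂, s', hv₁', hv₂, e'⟩ := h₂
  obtain rfl : s = s' := hv₁.symm.trans hv₁'
  exact ⟨hx₂, s, hv, hv₂, e'.trans e⟩

theorem IsTransportG.precomp {T T' : Scheme.{u}} (g : T' ⟶ T) {v v₁ : T ⟶ V.left}
    {x : T ⟶ Spec (CommRingCat.of A')} (h : IsTransportG a t v x v₁) :
    IsTransportG a t (g ≫ v) (g ≫ x) (g ≫ v₁) := by
  obtain ⟨hx, s, hv, hv₁, e⟩ := h
  have hgv : (g ≫ v) ≫ V.hom = g ≫ s := by rw [Category.assoc, hv]
  have hgv₁ : (g ≫ v₁) ≫ V.hom = g ≫ s := by rw [Category.assoc, hv₁]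
  refine ⟨by rw [Category.assoc, hx], g ≫ s, hgv, hgv₁, ?_⟩
  let g' : Over.mk (g ≫ s) ⟶ Over.mk s := Over.homMk g rfl
  have e1 : (Over.homMk (g ≫ v₁) hgv₁ : Over.mk (g ≫ s) ⟶ V) = g' ≫ Over.homMk v₁ hv₁ := by
    ext; rfl
  have e2 : (Over.homMk (g ≫ v) hgv : Over.mk (g ≫ s) ⟶ V) = g' ≫ Over.homMk v hv := by
    ext; rfl
  rw [e1, e2, Functor.map_comp, Functor.map_comp, Category.assoc, Category.assoc, e]

variable {π}

theorem IsTransportG.unique (sq : IsPullback t ((yon S).map a) π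
    ((yon S).map (ovc A A' sZ))) {T : Scheme.{u}} {v v₁ v₁' : T ⟶ V.left}
    {x : T ⟶ Spec (CommRingCat.of A')} (h : IsTransportG a t v x v₁)
    (h' : IsTransportG a t v x v₁') : v₁ = v₁' := by
  obtain ⟨hx, s, hv, hv₁, e⟩ := h
  obtain ⟨hx', s', hv', hv₁', e'⟩ := h'
  obtain rfl : s = s' := hv.symm.trans hv'
  have h1 : (yon S).map (Over.homMk v₁ hv₁ : Over.mk s ⟶ V) =
      (yon S).map (Over.homMk v₁' hv₁' : Over.mk s ⟶ V) := by
    apply sq.hom_ext
    · rw [e, e']
    · rw [← Functor.map_comp, ← Functor.map_comp]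
      congr 1
      ext
      change v₁ ≫ a.left = v₁' ≫ a.left
      rw [hx, hx']
  have h2 := (yon S).map_injective h1
  exact congrArg (fun k => k.left) h2

theorem IsTransportG.exists (sq : IsPullback t ((yon S).map a) π
    ((yon S).map (ovc A A' sZ))) {T : Scheme.{u}} (v : T ⟶ V.left)
    (x : T ⟶ Spec (CommRingCat.of A')) (h : v ≫ a.left ≫ pMap A A' = x ≫ pMap A A') :
    ∃ v₁, IsTransportG a t v x v₁ := by
  let s : T ⟶ S := v ≫ V.hom
  have hxs : x ≫ (ovW A A' sZ).hom = s := by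
    change x ≫ pMap A A' ≫ sZ = v ≫ V.hom
    rw [← Category.assoc, ← h, Category.assoc, Category.assoc]
    congr 1
    exact Over.w (a ≫ ovc A A' sZ)
  let x' : Over.mk s ⟶ ovW A A' sZ := Over.homMk x hxs
  let v' : Over.mk s ⟶ V := Over.homMk v rfl
  have hcompat : ((yon S).map v' ≫ t) ≫ π = (yon S).map x' ≫
      (yon S).map (ovc A A' sZ) := by
    rw [Category.assoc, sq.w, ← Functor.map_comp, ← Functor.map_comp, ← Functor.map_comp]
    congr 1
    ext
    change v ≫ a.left ≫ pMap A A' = x ≫ pMap A A'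
    exact h
  let ℓ := sq.lift _ _ hcompat
  let v₁ : Over.mk s ⟶ V := (yon S).preimage ℓ
  have hv₁ : (yon S).map v₁ = ℓ := (yon S).map_preimage ℓ
  refine ⟨v₁.left, ?_, s, rfl, Over.w v₁, ?_⟩
  · have h1 : (yon S).map (v₁ ≫ a) = (yon S).map x' := by
      rw [Functor.map_comp, hv₁]
      exact sq.lift_snd _ _ _
    have h2 := (yon S).map_injective h1
    exact congrArg (fun k => k.left) h2
  · have : (Over.homMk v₁.left (Over.w v₁) : Over.mk s ⟶ V) = v₁ := by ext; rfl
    rw [this, hv₁]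
    exact sq.lift_fst _ _ _

/-- The descent datum attached to the sheaf data. -/
noncomputable def sheafGenDD (sq : IsPullback t ((yon S).map a) π
    ((yon S).map (ovc A A' sZ))) : GenDD A a.left where
  Φ v x h := Classical.choose (IsTransportG.exists sq v x h)
  Φ_over v x h := (Classical.choose_spec (IsTransportG.exists sq v x h)).1
  Φ_natural g v x h h' :=
    IsTransportG.unique sq ((Classical.choose_spec (IsTransportG.exists sq v x h)).precomp g)
      (Classical.choose_spec (IsTransportG.exists sq (g ≫ v) (g ≫ x) h'))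
  Φ_self v h :=
    IsTransportG.unique sq (Classical.choose_spec (IsTransportG.exists sq v _ h))
      (IsTransportG.refl v)
  Φ_comp v x₁ x₂ h₁ h₂ h₃ :=
    IsTransportG.unique sq
      ((Classical.choose_spec (IsTransportG.exists sq v x₁ h₁)).trans
        (Classical.choose_spec (IsTransportG.exists sq _ x₂ h₂)))
      (Classical.choose_spec (IsTransportG.exists sq v x₂ h₃))

theorem sheafGenDD_spec (sq : IsPullback t ((yon S).map a) π
    ((yon S).map (ovc A A' sZ))) {T : Scheme.{u}} (v : T ⟶ V.left)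
    (x : T ⟶ Spec (CommRingCat.of A')) (h : v ≫ a.left ≫ pMap A A' = x ≫ pMap A A') :
    IsTransportG a t v x ((sheafGenDD sq).Φ v x h) :=
  Classical.choose_spec (IsTransportG.exists sq v x h)

/-- Points of `V` with the same image in `F` are transports of each other. -/
theorem eq_Φ_of_eq (sq : IsPullback t ((yon S).map a) π ((yon S).map (ovc A A' sZ)))
    {Q : Over S} (v v₁ : Q ⟶ V) (h : (yon S).map v₁ ≫ t = (yon S).map v ≫ t)
    (hcond : v.left ≫ a.left ≫ pMap A A' = (v₁ ≫ a).left ≫ pMap A A') :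
    (sheafGenDD sq).Φ v.left (v₁ ≫ a).left hcond = v₁.left :=
  IsTransportG.unique sq (sheafGenDD_spec sq _ _ hcond) (IsTransportG.of_over v v₁ h)

theorem cond_of_eq (sq : IsPullback t ((yon S).map a) π ((yon S).map (ovc A A' sZ)))
    {Q : Over S} (v v₁ : Q ⟶ V) (h : (yon S).map v₁ ≫ t = (yon S).map v ≫ t) :
    v.left ≫ a.left ≫ pMap A A' = (v₁ ≫ a).left ≫ pMap A A' := by
  have h1 : (yon S).map (v₁ ≫ a ≫ ovc A A' sZ) =
      (yon S).map (v ≫ a ≫ ovc A A' sZ) := by
    rw [Functor.map_comp, Functor.map_comp, Functor.map_comp, Functor.map_comp, ← sq.w,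
      ← Category.assoc, h, Category.assoc]
  have h2 := congrArg (fun k => k.left) ((yon S).map_injective h1)
  change v.left ≫ a.left ≫ pMap A A' = (v₁.left ≫ a.left) ≫ pMap A A'
  rw [Category.assoc]
  exact h2.symm

end Groth.Agent.H53.Desc
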